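import Cfsg.Agent.H241.NHTools
import Cfsg.Agent.H843.N11
import Cfsg.Agent.H843.N17
import Cfsg.Agent.H843.N23
import Cfsg.Agent.H843.N29
import Cfsg.Agent.H711.FiTFRow
import Cfsg.Agent.LThreeFi24.FiveConj
import Cfsg.Agent.CpAutFiSeven.None
import Cfsg.Agent.NotCT.Orders

/-!
# Row of the nilpotent Hall cluster: `Fi24'` (helper353)

* `nc_seven`: from the number of transpositions commuting with an element of order `q`;
* `ncard_fx`: that number for an element given by a word (sieve of the points);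
* `row_fi24`.
-/

set_option autoImplicit false
set_option maxRecDepth 100000
set_option Elab.async false

namespace Cfsg.Agent.H353.NHFiTF

open Subgroup
open Cfsg Cfsg.Agent.Lib.PermNet Cfsg.Agent.Lib.PermNetPt Cfsg.Agent.Fischer.Fi24RepDef Cfsg.Agent.Fischer.Fi24Rep
open Cfsg.Agent.Fischer.Fi24RepOrb (UG orbG)
open Cfsg.Agent.Fischer.Fi24Spider (word_append word_cons word_nil gword gen_conj)
open Cfsg.Agent.R08.FiTwentyFour (L finite_Fi24)
open Cfsg.Agent.KFacts.FiTF.Pts Cfsg.Agent.KFacts.FiTF.FixMask Cfsg.Agent.H843.Fi24N Cfsg.Agent.H843.Pat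
open Cfsg.Agent.LThreeFi24.SNineK (fixB l36)
open Cfsg.Agent.LThreeFi24.SNine (fixB_spec)
open Cfsg.Spor (Fi24)
open Cfsg.Spor.Fi24 (Gen)
open Cfsg.Agent.H630.NH Cfsg.Agent.H241.NH Cfsg.Agent.H393.Iso

/-- the transpositions commuting with `x` -/
def Fx (x : Fi24) : Set Fi24 := {d | d ∈ L ∧ x * d = d * x}

theorem card_prime : Nat.card Spor.Fi24' = 1255205709190661721292800 := NotCT.Orders.fi24 ⟨MulEquiv.refl _⟩

theorem finite_prime : Finite Spor.Fi24' :=
  have := finite_Fi24
  inferInstanceAs (Finite ↥(commutator Spor.Fi24))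

/-- the action on the transpositions -/
@[reducible] def act : MulAction Spor.Fi24' {d : Fi24 // d ∈ L} where
  smul g d := ⟨(g : Fi24) * d * (g : Fi24)⁻¹, R08.FiTwentyFour.conj d.2 _⟩
  one_smul d := Subtype.ext (by
    show ((1 : Spor.Fi24') : Fi24) * d * ((1 : Spor.Fi24') : Fi24)⁻¹ = d
    rw [Subgroup.coe_one]; group)
  mul_smul g h d := Subtype.ext (by
    show ((g * h : Spor.Fi24') : Fi24) * d * ((g * h : Spor.Fi24') : Fi24)⁻¹ =
      (g : Fi24) * ((h : Fi24) * d * (h : Fi24)⁻¹) * (g : Fi24)⁻¹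
    rw [Subgroup.coe_mul]; group)

/-- the number of transpositions commuting with `x` is not divisible by 7 -/
theorem nc_seven {q : ℕ} {x : Spor.Fi24'} (h7 : 7 ≠ q) (hx : orderOf x = q)
    (hF : ¬ 7 ∣ (Fx (x : Fi24)).ncard) : NC 7 q Spor.Fi24' := by
  have := finite_Fi24
  have := finite_prime
  let _ := act
  refine nc_of_fix (Ω := {d : Fi24 // d ∈ L}) (by norm_num) h7 ?_ (x := x) ⟨1, by rw [hx, pow_one]⟩ ?_
  · intro a
    -- the stabilizer is isomorphic to a subgroup of the centralizer of the transposition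
    have h1 := (MulAction.stabilizer Spor.Fi24' a).card_mul_index
    have h2 : Nat.card (MulAction.stabilizer Spor.Fi24' a) ∣ Nat.card ↥(centralizer {(a : Fi24)} : Subgroup Fi24) := by
      rw [← card_map_of_injective (K := MulAction.stabilizer Spor.Fi24' a) (commutator Fi24).subtype_injective]
      apply card_dvd_of_le
      rintro _ ⟨g, hg, rfl⟩
      rw [mem_centralizer_singleton_iff]
      have h3 : g • a = a := hg
      have h4 : (g : Fi24) * a * (g : Fi24)⁻¹ = a := congrArg Subtype.val h3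
      exact mul_inv_eq_iff_eq_mul.1 h4
    have h3 : ¬ 49 ∣ Nat.card (MulAction.stabilizer Spor.Fi24' a) :=
      fun h => CpAutFiSeven.card_cent a.2 (h.trans h2)
    by_contra h4
    have h5 : 49 ∣ Nat.card (MulAction.stabilizer Spor.Fi24' a) * (MulAction.stabilizer Spor.Fi24' a).index := by
      rw [h1, card_prime]; norm_num
    apply h3
    refine Nat.Coprime.dvd_of_dvd_mul_right ?_ h5
    have h6 : Nat.Coprime 7 (MulAction.stabilizer Spor.Fi24' a).index :=
      (Nat.Prime.coprime_iff_not_dvd (by norm_num)).2 h4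
    exact Nat.Coprime.mul_left h6 h6
  · intro hd
    apply hF
    have h1 : Nat.card (MulAction.fixedBy {d : Fi24 // d ∈ L} x) = (Fx (x : Fi24)).ncard := by
      rw [← Nat.card_coe_set_eq]
      refine Nat.card_congr (Equiv.mk (fun d => ⟨((d : {d : Fi24 // d ∈ L}) : Fi24), ?_⟩) (fun d => ⟨⟨(d : Fi24), d.2.1⟩, ?_⟩) ?_ ?_)
      · refine ⟨(d : {d : Fi24 // d ∈ L}).2, ?_⟩
        have h3 := congrArg Subtype.val (MulAction.mem_fixedBy.1 d.2)
        exact mul_inv_eq_iff_eq_mul.1 h3
      · rw [MulAction.mem_fixedBy]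
        apply Subtype.ext
        exact mul_inv_eq_iff_eq_mul.2 d.2.2
      · intro d; rfl
      · intro d; rfl
    rwa [h1] at hd

/-- the number of transpositions commuting with a word -/
theorem ncard_fx {xw : List Gen} {l : List ℕ} (hl : l.Nodup)
    (h : Nat.beq (sv (nw xw false) bl UG) (msk l) = true)
    (hU : Nat.beq (Nat.land (msk l) UG) (msk l) = true)
    (hfix : fixB (nw xw false) l = true) : (Fx (word xw)).ncard = l.length := by
  classical
  have := finite_Fi24
  have hpt : ∀ p ∈ l, ∃ d : Fi24, IsPt d p ∧ d ∈ Fx (word xw) := by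
    intro p hp
    have h1 : (msk l).testBit p = true := (testBit_msk _ _).2 hp
    have h2 : msk l &&& UG = msk l := Nat.eq_of_beq_eq_true hU
    rw [← h2, Nat.testBit_and, Bool.and_eq_true] at h1
    have h3 : p ∈ {p : ℕ | ∃ x, rho x 0 = p} := by rw [orbG]; exact h1.2
    obtain ⟨g, hg⟩ := h3
    have h4 : IsPt (g * gen .l * g⁻¹) p := ⟨g, hg, rfl⟩
    refine ⟨_, h4, h4.mem, ?_⟩
    exact (h4.comm_iff _).2 (rho_of_chkPt (fixB_spec hfix p hp))
  choose! f hf1 hf2 using hpt
  have h1 : Fx (word xw) = f '' {p | p ∈ l} := by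
    ext d
    constructor
    · rintro ⟨hd, hc⟩
      obtain ⟨q, hq, hq'⟩ := sieve_mem h hd hc.symm
      exact ⟨q, hq, (hf1 q hq).inj hq'⟩
    · rintro ⟨p, hp, rfl⟩
      exact hf2 p hp
  have h2 : Set.InjOn f {p | p ∈ l} := by
    intro p hp q hq hpq
    refine (hf1 p hp).uniq ?_
    rw [hpq]
    exact hf1 q hq
  rw [h1, Set.InjOn.ncard_image h2]
  have h3 : {p | p ∈ l} = ((l.toFinset : Finset ℕ) : Set ℕ) := by
    ext p; simp
  rw [h3, Set.ncard_coe_finset, List.toFinset_card_of_nodup hl]

/-! ### An element of order 13 -/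

def xw : List Gen := [.e, .f, .h, .c, .i, .d, .a, .b]

def l6 : List ℕ := [0, 23, 136, 156, 285132, 285164]

theorem sieve13 : Nat.beq (sv (nw xw false) bl UG) (msk l6) = true := by decide +kernel

theorem sub13 : Nat.beq (Nat.land (msk l6) UG) (msk l6) = true := by decide +kernel

theorem fix13 : fixB (nw xw false) l6 = true := by decide +kernel

theorem chk13 : H843.Pat.chkEq (rep 13 xw) [] = true := by decide +kernel


theorem order13 : orderOf (word xw) = 13 := by
  have : Fact (Nat.Prime 13) := ⟨by norm_num⟩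
  apply orderOf_eq_prime
  · rw [← word_rep]
    exact (word_eq_of chk13).trans word_nil
  · intro h
    have h1 := ncard_fx (by decide) sieve13 sub13 fix13
    rw [h] at h1
    have h2 : Fx 1 = L := by
      ext d
      exact ⟨fun h => h.1, fun h => ⟨h, by rw [one_mul, mul_one]⟩⟩
    rw [h2, Cfsg.Agent.R08.FiTwentyFour.ncard_L] at h1
    exact absurd h1 (by decide)

theorem nc_seven_thirteen : NC 7 13 Spor.Fi24' := by
  have hm : word xw ∈ commutator Fi24 := mem_commutator (by rw [order13]; decide)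
  refine nc_seven (x := ⟨word xw, hm⟩) (by norm_num) (by rw [Subgroup.orderOf_mk, order13]) ?_
  show ¬ 7 ∣ (Fx (word xw)).ncard
  rw [ncard_fx (by decide) sieve13 sub13 fix13]
  decide

/-! ### An element of order 5 -/

theorem chk5 : chkEq (rep 5 [.l, .k, .a, .b]) [] = true := by decide +kernel

theorem ncard5 : (Fx (word [.l, .k, .a, .b])).ncard = 36 :=
  ncard_fx (by decide) Cfsg.Agent.LThreeFi24.SNineK.sieve_y Cfsg.Agent.LThreeFi24.SNineK.sub_UG
    Cfsg.Agent.LThreeFi24.SNineK.fix_y

theorem order5 : orderOf (word [.l, .k, .a, .b]) = 5 := by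
  have : Fact (Nat.Prime 5) := ⟨by norm_num⟩
  apply orderOf_eq_prime
  · rw [← word_rep]
    exact (word_eq_of chk5).trans word_nil
  · intro h
    have h1 := ncard5
    rw [h] at h1
    have h2 : Fx 1 = L := by
      ext d
      exact ⟨fun h => h.1, fun h => ⟨h, by rw [one_mul, mul_one]⟩⟩
    rw [h2, Cfsg.Agent.R08.FiTwentyFour.ncard_L] at h1
    exact absurd h1 (by decide)

theorem nc_seven_five : NC 7 5 Spor.Fi24' := by
  have hm : word [.l, .k, .a, .b] ∈ commutator Fi24 := mem_commutator (by rw [order5]; decide)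
  refine nc_seven (x := ⟨_, hm⟩) (by norm_num) (by rw [Subgroup.orderOf_mk, order5]) ?_
  show ¬ 7 ∣ (Fx (word [.l, .k, .a, .b])).ncard
  rw [ncard5]
  decide

/-! ### Large primes -/

/-- from the order of the normalizer in `Fi24` -/
theorem nc_norm {p q n : ℕ} {x : Fi24} (hp : p.Prime) (hpq : p ≠ q) (hd : p ∣ Nat.card Spor.Fi24') (hq : Odd q)
    (hx : orderOf x = q) (hn : Nat.card (normalizer (zpowers x : Set Fi24)) = n) (h : ¬ p ∣ n) :
    NC p q Spor.Fi24' := by
  have := finite_Fi24
  have := finite_prime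
  have hm : x ∈ commutator Fi24 := mem_commutator (by rw [hx]; exact hq)
  refine (nc_of_card (p := q) (q := p) hp hpq.symm (x := (⟨x, hm⟩ : Spor.Fi24')) ⟨1, ?_⟩ (a := 1)
    (by rwa [pow_one]) ?_).symm
  · rw [Subgroup.orderOf_mk, hx, pow_one]
  · rw [pow_one]
    intro h1
    apply h
    rw [← hn]
    refine h1.trans ?_
    rw [← card_map_of_injective (commutator Fi24).subtype_injective]
    apply card_dvd_of_le
    rintro _ ⟨g, hg, rfl⟩
    have h2 : (g : Spor.Fi24') * ⟨x, hm⟩ = ⟨x, hm⟩ * g := mem_centralizer_singleton_iff.1 hg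
    have h3 : (g : Fi24) * x = x * g := congrArg Subtype.val h2
    refine H843.Cyc.mem_normalizer (k := 1) ?_
    show (g : Fi24) * x * (g : Fi24)⁻¹ = _
    rw [h3, mul_inv_cancel_right, pow_one]

theorem nc_seven_eleven : NC 7 11 Spor.Fi24' :=
  nc_norm (by norm_num) (by norm_num) (by rw [card_prime]; norm_num) (by decide) H843.D11.order H843.D11.main
    (by norm_num)

theorem nc_seven_seventeen : NC 7 17 Spor.Fi24' :=
  nc_norm (by norm_num) (by norm_num) (by rw [card_prime]; norm_num) (by decide) H843.D17.order H843.D17.main.1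
    (by norm_num)

theorem nc_seven_twentythree : NC 7 23 Spor.Fi24' :=
  nc_norm (by norm_num) (by norm_num) (by rw [card_prime]; norm_num) (by decide) H843.D23.order H843.D23.main.1
    (by norm_num)

/-- the centralizer in `Fi24'` of an element of order 17, 23, 29 -/
theorem exists_solvable {x : Fi24} {q : ℕ} (hq : q.Prime) (hq2 : Odd q) (hx : orderOf x = q)
    (hc : Nat.card (centralizer (zpowers x : Set Fi24)) = q * 2 ∨ Nat.card (centralizer (zpowers x : Set Fi24)) = q)
    (hl : Nat.card (centralizer (zpowers x : Set Fi24)) = q * 2 →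
      ∃ d ∈ L, d ∈ centralizer (zpowers x : Set Fi24)) :
    ∃ y : Spor.Fi24', orderOf y = q ∧ Group.IsSolvable ↥(centralizer ({y} : Set Spor.Fi24')) := by
  have := finite_Fi24
  have := finite_prime
  have hm : x ∈ commutator Fi24 := mem_commutator (by rw [hx]; exact hq2)
  have hc' : Nat.card ↥(commutator Fi24 ⊓ centralizer (zpowers x : Set Fi24)) ∣ q := by
    rcases hc with h | h
    · obtain ⟨d, hd, hd'⟩ := hl h
      have h1 := half hd' hd
      rw [h] at h1
      rw [Nat.eq_of_mul_eq_mul_right (by norm_num : 0 < 2) h1]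
    · rw [← h]
      exact card_dvd_of_le inf_le_right
  refine ⟨⟨x, hm⟩, by rw [Subgroup.orderOf_mk, hx], ?_⟩
  have hd : Nat.card (centralizer ({(⟨x, hm⟩ : Spor.Fi24')} : Set Spor.Fi24')) ∣ q := by
    refine Dvd.dvd.trans ?_ hc'
    rw [← card_map_of_injective (commutator Fi24).subtype_injective]
    apply card_dvd_of_le
    rintro _ ⟨g, hg, rfl⟩
    refine ⟨g.2, ?_⟩
    have h2 : (g : Spor.Fi24') * ⟨x, hm⟩ = ⟨x, hm⟩ * g := mem_centralizer_singleton_iff.1 hg
    have h3 : (g : Fi24) * x = x * g := congrArg Subtype.val h2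
    exact H843.Cyc.mem_centralizer_zpowers.2 h3
  have hcyc : IsCyclic ↥(centralizer ({(⟨x, hm⟩ : Spor.Fi24')} : Set Spor.Fi24')) := by
    rcases (Nat.dvd_prime hq).1 hd with h | h
    · have : Subsingleton ↥(centralizer ({(⟨x, hm⟩ : Spor.Fi24')} : Set Spor.Fi24')) := (Nat.card_eq_one_iff_unique.1 h).1
      infer_instance
    · have : Fact q.Prime := ⟨hq⟩
      exact isCyclic_of_prime_card h
  have : IsMulCommutative ↥(centralizer ({(⟨x, hm⟩ : Spor.Fi24')} : Set Spor.Fi24')) := inferInstance
  exact Group.isSolvable_of_comm this.is_comm.comm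

theorem solv17 : ∃ y : Spor.Fi24', orderOf y = 17 ∧ Group.IsSolvable ↥(centralizer ({y} : Set Spor.Fi24')) :=
  exists_solvable (by norm_num) (by decide) H843.D17.order (Or.inl H843.D17.main.2) fun _ =>
    ⟨gen .l, gen_l_mem, by
      have h : gen .l ∈ L ∩ (centralizer (zpowers H843.D17.D.x : Set Fi24) : Set Fi24) := by
        rw [H843.D17.inter]; rfl
      exact h.2⟩

theorem solv23 : ∃ y : Spor.Fi24', orderOf y = 23 ∧ Group.IsSolvable ↥(centralizer ({y} : Set Spor.Fi24')) :=
  exists_solvable (by norm_num) (by decide) H843.D23.order (Or.inl H843.D23.main.2) fun _ =>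
    ⟨gen .l, gen_l_mem, by
      have h : gen .l ∈ L ∩ (centralizer (zpowers H843.D23.D.x : Set Fi24) : Set Fi24) := by
        rw [H843.D23.inter]; rfl
      exact h.2⟩

theorem solv29 : ∃ y : Spor.Fi24', orderOf y = 29 ∧ Group.IsSolvable ↥(centralizer ({y} : Set Spor.Fi24')) :=
  exists_solvable (by norm_num) (by decide) H843.D29.order (Or.inr H843.D29.main.2) fun h => by
    rw [H843.D29.main.2] at h
    exact absurd h (by norm_num)

theorem nc_seven_twentynine : NC 7 29 Spor.Fi24' := by
  have := finite_Fi24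
  have := finite_prime
  have hm : H843.D29.D.x ∈ commutator Fi24 := mem_commutator (by rw [H843.D29.order]; decide)
  refine (nc_of_dvd (p := 29) (q := 7) (by norm_num) (by norm_num) (x := (⟨_, hm⟩ : Spor.Fi24'))
    (by rw [Subgroup.orderOf_mk, H843.D29.order]) (a := 1) (n := 29) (by rw [card_prime]; norm_num) ?_
    (by norm_num)).symm
  rw [← H843.D29.main.2, ← card_map_of_injective (commutator Fi24).subtype_injective]
  apply card_dvd_of_le
  rintro _ ⟨g, hg, rfl⟩
  have h2 : (g : Spor.Fi24') * ⟨_, hm⟩ = ⟨_, hm⟩ * g := mem_centralizer_singleton_iff.1 hg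
  have h3 : (g : Fi24) * H843.D29.D.x = H843.D29.D.x * g := congrArg Subtype.val h2
  exact H843.Cyc.mem_centralizer_zpowers.2 h3

/-! ### The primes 3 and 5 -/

theorem nc_three {q : ℕ} (hq : q.Prime) (h3 : 3 ≠ q) (hd : q ∣ Nat.card Spor.Fi24') : NC 3 q Spor.Fi24' := by
  intro hc
  have := finite_Fi24
  have := finite_prime
  have h3' : Fact (Nat.Prime 3) := ⟨Nat.prime_three⟩
  have : Fact q.Prime := ⟨hq⟩
  obtain ⟨y, hy⟩ := exists_prime_orderOf_dvd_card' q hd
  have h1 : ¬ 3 ∣ (centralizer ({y} : Set Spor.Fi24')).index :=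
    hc q (by simp) 3 (by simp) h3.symm y ⟨1, by rw [hy, pow_one]⟩
  obtain ⟨P, hP⟩ := H630.CLib.exists_sylow_le 3 _ h1
  have h2 : y = 1 := by
    refine H711.FiTFRow.cc_fi24 P y ?_ ?_
    · rw [hy]
      exact fun h => h3 ((Nat.prime_dvd_prime_iff_eq Nat.prime_three hq).1 h)
    · intro x hx
      have h4 : x * y = y * x := mem_centralizer_singleton_iff.1 (hP hx)
      rw [← h4, mul_inv_cancel_right]
  rw [h2, orderOf_one] at hy
  exact hq.one_lt.ne hy

theorem nc_five_eleven : NC 5 11 Spor.Fi24' := by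
  have := finite_Fi24
  have := finite_prime
  have hx : H843.D11.D.x ∈ commutator Fi24 := mem_commutator (by rw [H843.D11.order]; decide)
  have hg : word H843.D11.w9 ∈ commutator Fi24 := mem_commutator (by rw [H843.D11.order9]; decide)
  refine nc_of_act (u := (⟨_, hg⟩ : Spor.Fi24')) (y := ⟨_, hx⟩) (m := 9) (by norm_num) (by norm_num) ⟨1, ?_⟩ ⟨1, ?_⟩ ?_ ?_
  · rw [Subgroup.orderOf_mk, H843.D11.order9, pow_one]
  · rw [Subgroup.orderOf_mk, H843.D11.order, pow_one]
  · exact Subtype.ext H843.D11.conj9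
  · intro h
    have h1 : word H843.D11.w9 * H843.D11.D.x = H843.D11.D.x * word H843.D11.w9 := congrArg Subtype.val h
    apply H843.D11.pow9
    rw [← H843.D11.conj9, h1, mul_inv_cancel_right]

/-! ### The row -/

theorem row_model : Row Spor.Fi24' := by
  have := finite_Fi24
  have := finite_prime
  refine row_of (N := 1255205709190661721292800) (k := 21) card_prime [3, 5, 7, 11, 13, 17, 23, 29] [3, 7] [17, 23, 29] 5
    [(5, 11)] ?_ ?_ ?_ ?_ ?_ ?_ ?_ ?_
  · intro q hq
    simp only [List.mem_cons, List.not_mem_nil, or_false] at hq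
    rcases hq with rfl | rfl | rfl | rfl | rfl | rfl | rfl | rfl <;> norm_num
  · norm_num
  · intro q hq
    simp only [List.mem_cons, List.not_mem_nil, or_false] at hq
    rcases hq with rfl | rfl | rfl | rfl | rfl | rfl | rfl | rfl <;> norm_num
  · exact ab_of_not_cube (by norm_num) (by rw [card_prime]; norm_num)
  · intro p hp q hq hpq
    simp only [List.mem_cons, List.not_mem_nil, or_false] at hp hq
    rcases hp with rfl | rfl
    · refine nc_three ?_ hpq ?_
      · rcases hq with rfl | rfl | rfl | rfl | rfl | rfl | rfl | rfl <;> norm_num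
      · rw [card_prime]
        rcases hq with rfl | rfl | rfl | rfl | rfl | rfl | rfl | rfl <;> norm_num
    · rcases hq with rfl | rfl | rfl | rfl | rfl | rfl | rfl | rfl
      · exact (nc_three (by norm_num) (by norm_num) (by rw [card_prime]; norm_num)).symm
      · exact nc_seven_five
      · exact absurd rfl hpq
      · exact nc_seven_eleven
      · exact nc_seven_thirteen
      · exact nc_seven_seventeen
      · exact nc_seven_twentythree
      · exact nc_seven_twentynine
  · intro r hr
    simp only [List.mem_cons, List.not_mem_nil, or_false] at hr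
    rcases hr with rfl | rfl | rfl
    · exact solv17
    · exact solv23
    · exact solv29
  · intro a ha
    obtain rfl := List.mem_singleton.1 ha
    exact nc_five_eleven
  · decide

/-- **The row of `Fi24'`.** -/
theorem row_fi24 {G : Type*} [Group G] [Finite G] [IsSimpleGroup G] (h : Spor.IsoFi24' G) : Row G := by
  obtain ⟨e⟩ := h
  exact row_model.congr e.symm

end Cfsg.Agent.H353.NHFiTF
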