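import Cfsg.Agent.H384.TwoTransRed
import Cfsg.Agent.H221.ClassCount

/-!
# HUB H1: long root subgroups in a 2-transitive group of Lie type, `p ∣ n` (helper353)

`LR p q k N X` : abstract data of a long root subgroup `X` of the group `T` (order `q = p ^ f`):
`X = Z(U)` for a Sylow `p`-subgroup `U`; a subgroup `E` is the disjoint union of `q + 1` conjugates of `X`; `Y` has order
`q ^ (2 k + 1)` and every subgroup of `Y` meeting `X` trivially has order at most `q ^ k`; there are `N` nontrivial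
elements in the conjugates of `X`.

`main` : if `A : AS G Ω T` and the normalizers of the Sylow `p`-subgroups of `T` are transitive on `Ω` then
`q ^ (k + 1) ∣ |Ω|` and `|Ω| - 1 ∣ N`, and the nontrivial elements of the conjugates of `X` have no fixed point.
-/

set_option autoImplicit false

namespace Cfsg.Agent.H353.TwoLong

open MulAction Cfsg.Agent.H384.TwoTrans Cfsg.Agent.H221.ClassCount
open scoped Pointwise

universe u v

/-- conjugate of a subgroup -/
def cj {T : Type*} [Group T] (g : T) (X : Subgroup T) : Subgroup T := X.map (MulAut.conj g).toMonoidHom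

theorem mem_cj {T : Type*} [Group T] {g : T} {X : Subgroup T} {x : T} : x ∈ cj g X ↔ g⁻¹ * x * g ∈ X := by
  unfold cj
  constructor
  · rintro ⟨y, hy, rfl⟩
    have : g⁻¹ * (MulAut.conj g).toMonoidHom y * g = y := by
      show g⁻¹ * (g * y * g⁻¹) * g = y
      group
    rw [this]
    exact hy
  · intro h
    refine ⟨_, h, ?_⟩
    show g * (g⁻¹ * x * g) * g⁻¹ = x
    group

/-- long root data -/
structure LR (p q k N : ℕ) {T : Type*} [Group T] (X : Subgroup T) : Prop where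
  prime : p.Prime
  qf : ∃ f, 1 ≤ f ∧ q = p ^ f
  card : Nat.card X = q
  cen : ∃ U : Sylow p T, ∀ x, x ∈ X ↔ x ∈ U ∧ ∀ u ∈ U, x * u = u * x
  line : ∃ (E : Subgroup T) (g : Fin (q + 1) → T), (∀ x, x ∈ E ↔ ∃ i, x ∈ cj (g i) X) ∧
    ∀ i j, i ≠ j → ∀ x, x ∈ cj (g i) X → x ∈ cj (g j) X → x = 1
  heis : ∃ Y : Subgroup T, Nat.card Y = q ^ (2 * k + 1) ∧
    ∀ D : Subgroup T, D ≤ Y → (∀ x ∈ D, x ∈ X → x = 1) → Nat.card D ≤ q ^ k
  num : {x : T | x ≠ 1 ∧ ∃ g : T, x ∈ cj g X}.ncard = N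

section count

variable {T : Type*} [Group T] [Finite T]

/-- counting in a union of subgroups with pairwise trivial intersections -/
theorem card_union {ι : Type*} [Fintype ι] {c : ℕ} (E : Subgroup T) (Xi : ι → Subgroup T)
    (hE : ∀ x, x ∈ E ↔ ∃ i, x ∈ Xi i) (hd : ∀ i j, i ≠ j → ∀ x, x ∈ Xi i → x ∈ Xi j → x = 1)
    (hc : ∀ i, Nat.card (Xi i) = c) : Nat.card E = 1 + Fintype.card ι * (c - 1) := by
  classical
  have := Fintype.ofFinite T
  have h1 : ((E : Set T) \ {1}) = ⋃ i, ((Xi i : Set T) \ {1}) := by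
    ext x
    simp only [Set.mem_sdiff, SetLike.mem_coe, Set.mem_singleton_iff, Set.mem_iUnion, hE]
    constructor
    · rintro ⟨⟨i, hi⟩, hx⟩
      exact ⟨i, hi, hx⟩
    · rintro ⟨i, hi, hx⟩
      exact ⟨⟨i, hi⟩, hx⟩
  have h2 : ∀ H : Subgroup T, ((H : Set T) \ {1}).ncard = Nat.card H - 1 := by
    intro H
    rw [Set.ncard_sdiff (Set.singleton_subset_iff.2 H.one_mem) (Set.toFinite _), Set.ncard_singleton]
    rfl
  have h3 : (⋃ i, ((Xi i : Set T) \ {1})).ncard = ∑ i, ((Xi i : Set T) \ {1}).ncard := by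
    rw [Set.ncard_iUnion_of_finite (fun i => Set.toFinite _), finsum_eq_sum_of_fintype]
    intro i j hij
    rw [Function.onFun, Set.disjoint_left]
    rintro x ⟨h1, h2⟩ ⟨h3, -⟩
    exact h2 (hd i j hij x h1 h3)
  rw [← h1, h2] at h3
  have h4 : ∑ i, ((Xi i : Set T) \ {1}).ncard = Fintype.card ι * (c - 1) := by
    rw [Finset.sum_congr rfl (g := fun _ => c - 1)]
    · rw [Finset.sum_const, Finset.card_univ, smul_eq_mul]
    · intro i _
      rw [h2, hc]
  rw [h4] at h3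
  have h5 : 0 < Nat.card E := Nat.card_pos
  omega

end count

theorem pow_case {p f s t : ℕ} (hp : p.Prime) (hs : 1 ≤ s) (hsf : s < f)
    (h : p ^ t = 1 + (p ^ f + 1) * (p ^ s - 1)) : False := by
  have h1 : 1 ≤ p ^ s := Nat.one_le_pow _ _ hp.pos
  obtain ⟨e, rfl⟩ : ∃ e, f = s + (e + 1) := ⟨f - s - 1, by omega⟩
  have h2 : 1 + (p ^ (s + (e + 1)) + 1) * (p ^ s - 1) = p ^ s * (1 + p ^ (e + 1) * (p ^ s - 1)) := by
    obtain ⟨c, hc⟩ : ∃ c, p ^ s = c + 1 := ⟨p ^ s - 1, by omega⟩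
    rw [pow_add, hc, Nat.add_sub_cancel]
    ring
  rw [h2] at h
  have h3 : (1 + p ^ (e + 1) * (p ^ s - 1)) ∣ p ^ t := ⟨p ^ s, by rw [h]; ring⟩
  obtain ⟨j, -, hj⟩ := (Nat.dvd_prime_pow hp).1 h3
  have h4 : 2 ≤ p ^ s := by
    calc 2 ≤ p := hp.two_le
      _ = p ^ 1 := (pow_one p).symm
      _ ≤ p ^ s := Nat.pow_le_pow_right hp.pos hs
  rcases Nat.eq_zero_or_pos j with hj0 | hj0
  · rw [hj0, pow_zero] at hj
    have h5 : 0 < p ^ (e + 1) * (p ^ s - 1) := Nat.mul_pos (Nat.pow_pos hp.pos) (by omega)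
    omega
  · have h6 : p ∣ 1 + p ^ (e + 1) * (p ^ s - 1) := by
      rw [hj]; exact dvd_pow_self p (by omega)
    have h7 : p ∣ p ^ (e + 1) * (p ^ s - 1) := Dvd.dvd.mul_right (dvd_pow_self p (by omega)) _
    have h8 : p ∣ 1 := (Nat.dvd_add_left h7).1 h6
    exact hp.one_lt.ne' (Nat.dvd_one.1 h8)

section main

variable {G : Type u} {Ω : Type v} [Group G] [MulAction G Ω] {T : Subgroup G} {p q k N : ℕ} {X : Subgroup ↥T}

/-- the stabiliser of `a` in `T` -/
theorem card_cj (g : T) (X : Subgroup T) (a : Ω) :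
    Nat.card ↥(cj g X ⊓ stabilizer T a) = Nat.card ↥(X ⊓ stabilizer T (g⁻¹ • a)) := by
  have h : cj g X ⊓ stabilizer T a = cj g (X ⊓ stabilizer T (g⁻¹ • a)) := by
    ext y
    rw [Subgroup.mem_inf, mem_cj, mem_cj, Subgroup.mem_inf, mem_stabilizer_iff, mem_stabilizer_iff]
    refine and_congr Iff.rfl ?_
    rw [mul_smul, mul_smul, smul_inv_smul]
    constructor
    · intro h; rw [h]
    · intro h; exact smul_left_cancel _ h
  rw [h]
  exact (Nat.card_congr (Subgroup.equivMapOfInjective _ _ (MulAut.conj g).injective).toEquiv).symm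

/-- all intersections have the same order -/
theorem card_const [Finite T] (hX : ∃ U : Sylow p T, ∀ x, x ∈ X ↔ x ∈ U ∧ ∀ u ∈ U, x * u = u * x)
    (hB : ∀ (U : Sylow p T) (a b : Ω), ∃ g ∈ Subgroup.normalizer ((U : Subgroup T) : Set T), g • a = b)
    (g h : T) (a b : Ω) :
    Nat.card ↥(cj g X ⊓ stabilizer T a) = Nat.card ↥(cj h X ⊓ stabilizer T b) := by
  obtain ⟨U, hU⟩ := hX
  rw [card_cj, card_cj]
  refine card_inf_stabilizer_eq (A := X) (B := Subgroup.normalizer ((U : Subgroup T) : Set T)) ?_ (hB U) _ _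
  intro n hn x hx
  have hn' := Subgroup.inv_mem _ hn
  rw [Subgroup.mem_normalizer_iff] at hn hn'
  rw [hU] at hx ⊢
  refine ⟨(hn x).1 hx.1, fun u hu => ?_⟩
  have h2 := hx.2 (n⁻¹ * u * n) (by have := (hn' u).1 hu; rwa [inv_inv] at this)
  have h3 : n * (x * (n⁻¹ * u * n)) * n⁻¹ = n * (n⁻¹ * u * n * x) * n⁻¹ := by rw [h2]
  have h4 : n * (x * (n⁻¹ * u * n)) * n⁻¹ = n * x * n⁻¹ * u := by group
  have h5 : n * (n⁻¹ * u * n * x) * n⁻¹ = u * (n * x * n⁻¹) := by group
  rw [h4, h5] at h3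
  exact h3

variable (A : AS G Ω T) (L : LR p q k N X)
  (hB : ∀ (U : Sylow p T) (a b : Ω), ∃ g ∈ Subgroup.normalizer ((U : Subgroup T) : Set T), g • a = b)

include A L hB

/-- the nontrivial elements of the conjugates of `X` have no fixed points -/
theorem fixed_free (g : T) (a : Ω) (x : T) (hx : x ∈ cj g X) (hxa : x • a = a) : x = 1 := by
  classical
  have hfT := A.finT
  obtain ⟨f, hf, hq⟩ := L.qf
  have hp := L.prime
  set c := Nat.card ↥(X ⊓ stabilizer T a) with hc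
  have hconst : ∀ (h : T) (b : Ω), Nat.card ↥(cj h X ⊓ stabilizer T b) = c := by
    intro h b
    rw [card_const L.cen hB h 1 b a, card_cj, inv_one, one_smul]
  have hcq : c ∣ p ^ f := by
    rw [← hq, ← L.card]
    exact Subgroup.card_dvd_of_le inf_le_left
  obtain ⟨s, hsf, hs⟩ := (Nat.dvd_prime_pow hp).1 hcq
  obtain ⟨E, gi, hE, hEd⟩ := L.line
  have h1 : Nat.card E = 1 + Fintype.card (Fin (q + 1)) * (q - 1) :=
    card_union E (fun i => cj (gi i) X) hE hEd fun i => by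
      rw [← L.card]
      exact (Nat.card_congr (Subgroup.equivMapOfInjective _ _ (MulAut.conj (gi i)).injective).toEquiv).symm
  have hq1 : 1 ≤ q := by rw [hq]; exact Nat.one_le_pow _ _ hp.pos
  have h2 : Nat.card E = p ^ (2 * f) := by
    rw [h1, Fintype.card_fin]
    obtain ⟨c', hc'⟩ : ∃ c', q = c' + 1 := ⟨q - 1, by omega⟩
    have : p ^ (2 * f) = q * q := by rw [hq]; ring
    rw [this, hc', Nat.add_sub_cancel]
    ring
  have h3 : Nat.card ↥(E ⊓ stabilizer T a) = 1 + Fintype.card (Fin (q + 1)) * (c - 1) :=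
    card_union _ (fun i => cj (gi i) X ⊓ stabilizer T a)
      (by
        intro x
        rw [Subgroup.mem_inf, hE]
        constructor
        · rintro ⟨⟨i, hi⟩, h⟩
          exact ⟨i, hi, h⟩
        · rintro ⟨i, hi, h⟩
          exact ⟨⟨i, hi⟩, h⟩)
      (fun i j hij x h h' => hEd i j hij x h.1 h'.1) fun i => hconst _ _
  have h4 : Nat.card ↥(E ⊓ stabilizer T a) ∣ p ^ (2 * f) := by
    rw [← h2]
    exact Subgroup.card_dvd_of_le inf_le_left
  obtain ⟨t, -, ht⟩ := (Nat.dvd_prime_pow hp).1 h4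
  rw [ht, Fintype.card_fin, hs, hq] at h3
  rcases Nat.eq_zero_or_pos s with hs0 | hs0
  · -- trivial intersections
    have h5 : Nat.card ↥(cj g X ⊓ stabilizer T a) = 1 := by
      rw [hconst, hs, hs0, pow_zero]
    rw [Subgroup.card_eq_one] at h5
    have : x ∈ cj g X ⊓ stabilizer T a := ⟨hx, hxa⟩
    rw [h5] at this
    exact this
  · exfalso
    rcases hsf.lt_or_eq with h6 | h6
    · exact pow_case hp hs0 h6 h3
    · -- `X` is trivial
      have h7 : ∀ b : Ω, ∀ x ∈ X, x • b = b := by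
        intro b y hy
        have h8 := hconst 1 b
        rw [card_cj, inv_one, one_smul, hs, h6, ← hq, ← L.card] at h8
        have h9 : X ⊓ stabilizer T b = X := Subgroup.eq_of_le_of_card_ge inf_le_left h8.ge
        have h10 : y ∈ X ⊓ stabilizer T b := by rw [h9]; exact hy
        exact h10.2
      have h8 : X = ⊥ := by
        rw [Subgroup.eq_bot_iff_forall]
        intro y hy
        have := A.faithfulT
        apply FaithfulSMul.eq_of_smul_eq_smul (α := Ω)
        intro b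
        rw [h7 b y hy, one_smul]
      have h9 : q = 1 := by rw [← L.card, h8, Subgroup.card_bot]
      rw [hq] at h9
      have h10 := Nat.one_lt_pow (by omega : f ≠ 0) hp.one_lt
      omega

theorem num_dvd : (Nat.card Ω - 1) ∣ N := by
  classical
  have hfG := A.finG
  have hfΩ := A.finΩ
  have hfT := A.finT
  have hNor := A.normal
  have hne : Nontrivial Ω := A.nontrivialΩ
  obtain ⟨a⟩ : Nonempty Ω := inferInstance
  have hp : Fact p.Prime := ⟨L.prime⟩
  set C : Set G := (fun x : T => (x : G)) '' {x : T | x ≠ 1 ∧ ∃ g : T, x ∈ cj g X} with hC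
  have hinv : Cfsg.Agent.H221.ClassCount.Inv C := by
    rintro g _ ⟨x, ⟨hx1, h, hx⟩, rfl⟩
    obtain ⟨U, hU⟩ := L.cen
    set σ : MulAut T := MulAut.conjNormal g with hσ
    obtain ⟨t, ht⟩ := MulAction.exists_smul_eq T U (σ • U)
    have hσU : ∀ y : T, y ∈ U ↔ σ y ∈ (σ • U : Sylow p T) := by
      intro y
      have h1 : σ • y ∈ σ • (U : Subgroup T) ↔ y ∈ (U : Subgroup T) := Subgroup.smul_mem_pointwise_smul_iff
      exact h1.symm
    have htU : ∀ y : T, y ∈ U ↔ t * y * t⁻¹ ∈ (σ • U : Sylow p T) := by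
      intro y
      rw [← ht]
      have h1 : MulAut.conj t • y ∈ MulAut.conj t • (U : Subgroup T) ↔ y ∈ (U : Subgroup T) :=
        Subgroup.smul_mem_pointwise_smul_iff
      exact h1.symm
    have key : ∀ y ∈ X, σ y ∈ cj t X := by
      intro y hy
      rw [mem_cj, hU]
      obtain ⟨hy1, hy2⟩ := (hU y).1 hy
      have e : t * (t⁻¹ * σ y * t) * t⁻¹ = σ y := by group
      refine ⟨(htU _).2 (by rw [e]; exact (hσU y).1 hy1), fun u hu => ?_⟩
      -- `t u t⁻¹ = σ w` with `w ∈ U`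
      have h1 : t * u * t⁻¹ ∈ (σ • U : Sylow p T) := (htU u).1 hu
      obtain ⟨w, hw⟩ := σ.surjective (t * u * t⁻¹)
      have h2 : w ∈ U := (hσU w).2 (by rw [hw]; exact h1)
      have h3 : σ y * (t * u * t⁻¹) = (t * u * t⁻¹) * σ y := by
        rw [← hw, ← map_mul, ← map_mul, hy2 w h2]
      have h4 : t⁻¹ * (σ y * (t * u * t⁻¹)) * t = t⁻¹ * ((t * u * t⁻¹) * σ y) * t := by rw [h3]
      have h5 : t⁻¹ * (σ y * (t * u * t⁻¹)) * t = t⁻¹ * σ y * t * u := by group
      have h6 : t⁻¹ * ((t * u * t⁻¹) * σ y) * t = u * (t⁻¹ * σ y * t) := by group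
      rw [h5, h6] at h4
      exact h4
    refine ⟨σ x, ⟨?_, σ h * t, ?_⟩, ?_⟩
    · intro hcon
      exact hx1 ((MulEquiv.map_eq_one_iff σ).1 hcon)
    · rw [mem_cj] at hx ⊢
      have h7 := key _ hx
      rw [mem_cj] at h7
      have e : (σ h * t)⁻¹ * σ x * (σ h * t) = t⁻¹ * σ (h⁻¹ * x * h) * t := by
        simp only [map_mul, map_inv]; group
      rw [e]
      exact h7
    · rw [hσ]
      exact MulAut.conjNormal_apply g x
  have hcard : C.ncard = N := by
    rw [hC, Set.ncard_image_of_injective _ Subtype.val_injective, L.num]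
  have hemp : {y ∈ C | y • a = a}.ncard = 0 := by
    rw [Set.ncard_eq_zero (Set.toFinite _), Set.eq_empty_iff_forall_notMem]
    rintro _ ⟨⟨x, ⟨hx1, g, hx⟩, rfl⟩, hxa⟩
    exact hx1 (fixed_free A L hB g a x hx hxa)
  have h1 := sub_one_dvd A.two hinv a
  rw [hcard, hemp, Nat.cast_zero, sub_zero] at h1
  have h2 : 1 ≤ Nat.card Ω := Nat.card_pos
  have h3 : ((Nat.card Ω : ℤ) - 1) = ((Nat.card Ω - 1 : ℕ) : ℤ) := by
    rw [Nat.cast_sub h2, Nat.cast_one]
  rw [h3] at h1
  exact Int.natCast_dvd_natCast.1 h1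

theorem pow_dvd : q ^ (k + 1) ∣ Nat.card Ω := by
  classical
  have hfG := A.finG
  have hfΩ := A.finΩ
  have hfT := A.finT
  have := Fintype.ofFinite Ω
  obtain ⟨f, hf, hq⟩ := L.qf
  have hp := L.prime
  obtain ⟨Y, hY, hD⟩ := L.heis
  let _ : Fintype (orbitRel.Quotient Y Ω) := Fintype.ofFinite _
  have h1 : Nat.card Ω = ∑ ω : orbitRel.Quotient Y Ω, Nat.card ↥(orbitRel.Quotient.orbit ω) := by
    rw [Nat.card_congr (selfEquivSigmaOrbits' Y Ω), Nat.card_sigma]
  rw [h1]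
  refine Finset.dvd_sum fun ω _ => ?_
  induction ω using Quotient.inductionOn' with
  | h a =>
    rw [orbitRel.Quotient.orbit_mk, Nat.card_coe_set_eq]
    have h2 := card_orbit_mul (A := Y) a
    have h3 : Nat.card ↥(Y ⊓ stabilizer T a) ≤ q ^ k := by
      refine hD _ inf_le_left fun x hx hxX => ?_
      have h4 : x ∈ cj 1 X := by rw [mem_cj]; simpa using hxX
      exact fixed_free A L hB 1 a x h4 hx.2
    have h4 : Nat.card ↥(Y ⊓ stabilizer T a) ∣ p ^ (f * (2 * k + 1)) := by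
      rw [pow_mul, ← hq, ← hY]
      exact Subgroup.card_dvd_of_le inf_le_left
    obtain ⟨j, hj, hj'⟩ := (Nat.dvd_prime_pow hp).1 h4
    rw [hj', hY, hq, ← pow_mul] at h2
    rw [hj', hq, ← pow_mul] at h3
    have h5 : j ≤ f * k := (Nat.pow_le_pow_iff_right hp.one_lt).1 h3
    have h6 : (orbit Y a).ncard = p ^ (f * (2 * k + 1) - j) := by
      have h7 : p ^ (f * (2 * k + 1)) = p ^ (f * (2 * k + 1) - j) * p ^ j := by
        rw [← pow_add]; congr 1; omega
      rw [h7] at h2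
      exact Nat.eq_of_mul_eq_mul_right (Nat.pow_pos hp.pos) h2
    rw [h6, hq, ← pow_mul]
    apply Nat.pow_dvd_pow
    have h8 : f * (2 * k + 1) = f * (k + 1) + f * k := by ring
    omega

/-- **Main theorem.** -/
theorem main : q ^ (k + 1) ∣ Nat.card Ω ∧ (Nat.card Ω - 1) ∣ N :=
  ⟨pow_dvd A L hB, num_dvd A L hB⟩

end main

end Cfsg.Agent.H353.TwoLong
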