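import Cfsg.Agent.H726.Rel.Main
import Cfsg.Agent.H673.DiscAb2

/-!
# S4992, case A (helper353 for helper726)

* `of_halls`: abelian Hall subgroups for `ω` and its complement;
* `caseA`: over some nontrivial linear character of the normal `p`-subgroup `N` all degrees have the type
  containing `p`.
-/

set_option autoImplicit false
set_option linter.style.haveILetI false
set_option linter.unusedSectionVars false

open Cfsg
open scoped Pointwise commutatorElement

namespace Cfsg.Agent.H353.DiscA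

open Cfsg.Agent.H726.Rel Cfsg.Agent.H672
open Cfsg.Agent.Characters.Core Cfsg.Agent.Characters.Clifford

universe u v

theorem isMulComm_of {X : Type*} [Group X] {A : Subgroup X}
    (h : ∀ a ∈ A, ∀ b ∈ A, a * b = b * a) : IsMulCommutative ↥A :=
  ⟨⟨fun a b => Subtype.ext (h a a.2 b b.2)⟩⟩

theorem mul_eq_univ {X : Type*} [Group X] {A B : Subgroup X} (h : Subgroup.IsComplement' A B) :
    (A : Set X) * (B : Set X) = Set.univ := by
  rw [Set.eq_univ_iff_forall]
  intro x
  obtain ⟨⟨a, b⟩, hab⟩ := h.2 x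
  exact Set.mem_mul.2 ⟨a, a.2, b, b.2, hab⟩

theorem of_halls {X : Type*} [Group X] [Finite X] {ω : Set ℕ} (h1 : AbHall ω X)
    (h2 : AbHall ωᶜ X) : ∃ A B : Subgroup X, IsMulCommutative ↥A ∧ IsMulCommutative ↥B ∧
      Nat.Coprime (Nat.card ↥A) (Nat.card ↥B) ∧ (A : Set X) * (B : Set X) = Set.univ := by
  obtain ⟨A, hA1, hA2, hA3⟩ := h1
  obtain ⟨B, hB1, hB2, hB3⟩ := h2
  rw [compl_compl] at hB3
  have hcop : Nat.Coprime (Nat.card ↥A) (Nat.card ↥B) := hA2.coprime hB2
  -- the cardinal of `B` is the index of `A`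
  have e1 : Nat.card ↥A * A.index = Nat.card X := A.card_mul_index
  have e2 : Nat.card ↥B * B.index = Nat.card X := B.card_mul_index
  have d1 : Nat.card ↥B ∣ A.index := by
    have : Nat.card ↥B ∣ Nat.card ↥A * A.index := by rw [e1]; exact B.card_subgroup_dvd_card
    exact hcop.symm.dvd_of_dvd_mul_left this
  have d2 : A.index ∣ Nat.card ↥B := by
    have : A.index ∣ Nat.card ↥B * B.index := by rw [e2]; exact A.index_dvd_card
    exact (hB3.coprime hA3).symm.dvd_of_dvd_mul_right this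
  have hcard : Nat.card ↥A * Nat.card ↥B = Nat.card X := by
    rw [Nat.dvd_antisymm d1 d2, e1]
  exact ⟨A, B, isMulComm_of hA1, isMulComm_of hB1, hcop,
    mul_eq_univ (Subgroup.isComplement'_of_coprime hcard hcop)⟩

/-- a graph on numbers `> 1` of two types, both occurring, is not connected -/
theorem not_preconnected {S : Set ℕ} {ω : Set ℕ} (h1 : ∀ d ∈ S, 1 < d)
    (ht : ∀ d ∈ S, PiNum ω d ∨ PiNum ωᶜ d) (hA : ∃ d ∈ S, PiNum ω d)
    (hB : ∃ d ∈ S, PiNum ωᶜ d) : ¬ (commonDivisorGraph.induce S).Preconnected := by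
  intro h
  obtain ⟨a, ha, ha'⟩ := hA
  obtain ⟨b, hb, hb'⟩ := hB
  obtain ⟨w⟩ := h ⟨a, ha⟩ ⟨b, hb⟩
  have key : ∀ (x y : S) (_ : (commonDivisorGraph.induce S).Walk x y),
      PiNum ω (x : ℕ) → PiNum ω (y : ℕ) := by
    intro x y w
    induction w with
    | nil => exact id
    | @cons x z y hadj w' ih =>
      intro hx
      apply ih
      rcases ht z z.2 with h3 | h3
      · exact h3
      · exfalso
        have h4 : 1 < Nat.gcd (x : ℕ) (z : ℕ) := hadj.2
        have h5 : Nat.gcd (x : ℕ) (z : ℕ) = 1 := hx.coprime h3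
        omega
  have h6 := key _ _ w ha'
  have h7 := h1 b hb
  have h8 : b = 1 := h6.eq_one hb'
  omega

/-- The structure of `G ⧸ N` from a normal Sylow subgroup of a group over it. -/
theorem split_of {X : Type*} {Y : Type*} [Group X] [Group Y] [Finite X] [Finite Y] {p : ℕ}
    [hp : Fact p.Prime] (f : X →* Y) (hf : Function.Surjective f) (P : Sylow p X)
    (hPn : (P : Subgroup X).Normal) (hPc : commutator X ≤ P)
    (hPN : ⁅(P : Subgroup X), (P : Subgroup X)⁆ ≤ f.ker) :
    ∃ A B : Subgroup Y, IsMulCommutative ↥A ∧ IsMulCommutative ↥B ∧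
      Nat.Coprime (Nat.card ↥A) (Nat.card ↥B) ∧ (A : Set Y) * (B : Set Y) = Set.univ := by
  have hAn : ((P : Subgroup X).map f).Normal := hPn.map f hf
  have hAp : IsPGroup p ↥((P : Subgroup X).map f) := P.isPGroup'.map f
  have hAi : ¬ p ∣ ((P : Subgroup X).map f).index := fun h =>
    P.not_dvd_index (h.trans (Subgroup.index_map_dvd _ hf))
  have hAab : ∀ a ∈ (P : Subgroup X).map f, ∀ b ∈ (P : Subgroup X).map f, a * b = b * a := by
    rintro _ ⟨a, ha, rfl⟩ _ ⟨b, hb, rfl⟩
    have h1 : f ⁅a, b⁆ = 1 := hPN (Subgroup.commutator_mem_commutator ha hb)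
    rw [map_commutatorElement, commutatorElement_eq_one_iff_mul_comm] at h1
    exact h1
  have hAc : commutator Y ≤ (P : Subgroup X).map f := by
    have h1 : (commutator X).map f = commutator Y := by
      rw [commutator_def, commutator_def, Subgroup.map_commutator,
        Subgroup.map_top_of_surjective f hf]
    rw [← h1]
    exact Subgroup.map_mono hPc
  obtain ⟨k, hk⟩ := IsPGroup.iff_card.1 hAp
  have hcop : Nat.Coprime (Nat.card ↥((P : Subgroup X).map f)) ((P : Subgroup X).map f).index := by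
    rw [hk]
    exact ((Nat.Prime.coprime_iff_not_dvd hp.out).2 hAi).pow_left k
  obtain ⟨B, hB⟩ := Subgroup.exists_right_complement'_of_coprime hcop
  have hcB : Nat.card ↥B = ((P : Subgroup X).map f).index := (hB.symm.index_eq_card).symm
  have hBab : ∀ a ∈ B, ∀ b ∈ B, a * b = b * a := by
    intro a ha b hb
    rw [← commutatorElement_eq_one_iff_mul_comm]
    have h1 : ⁅a, b⁆ ∈ (P : Subgroup X).map f := hAc (by
      rw [commutator_def]
      exact Subgroup.commutator_mem_commutator (Subgroup.mem_top _) (Subgroup.mem_top _))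
    have h2 : ⁅a, b⁆ ∈ B := by
      rw [commutatorElement_def]
      exact B.mul_mem (B.mul_mem (B.mul_mem ha hb) (B.inv_mem ha)) (B.inv_mem hb)
    exact Subgroup.disjoint_def.1 hB.disjoint h1 h2
  refine ⟨_, B, isMulComm_of hAab, isMulComm_of hBab, ?_, mul_eq_univ hB⟩
  rw [hcB]
  exact hcop

/-- **Case A** of S4992. -/
theorem caseA (hIM : IMT.{u}) {G : Type u} [Group G] [Finite G] {p : ℕ} [hp : Fact p.Prime]
    {N : Subgroup G} [hN : N.Normal] (hNp : IsPGroup p N) {ω : Set ℕ} (hpω : p ∉ ω)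
    (h : Disc ω N) {l : N →* ℂˣ} (hl : l ≠ 1)
    (hty : ∀ χ : G → ℂ, IsIrrCharacter G χ → H672.Over N.subtype χ (H672.lf l) →
      PiNum ωᶜ (charDegree χ)) :
    ∃ A B : Subgroup (G ⧸ N), IsMulCommutative ↥A ∧ IsMulCommutative ↥B ∧
      Nat.Coprime (Nat.card ↥A) (Nat.card ↥B) ∧
      (A : Set (G ⧸ N)) * (B : Set (G ⧸ N)) = Set.univ := by
  classical
  have hDn : (⁅N, N⁆ : Subgroup G).Normal := Subgroup.commutator_normal N N
  have hDN : (⁅N, N⁆ : Subgroup G) ≤ N := Subgroup.commutator_le_left N N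
  have htriv : ∀ (m : N →* ℂˣ) (n : N), (n : G) ∈ (⁅N, N⁆ : Subgroup G) → m n = 1 := by
    intro m n hn
    rw [← Subgroup.map_subtype_commutator] at hn
    obtain ⟨y, hy, hyn⟩ := hn
    have e : y = n := Subtype.ext hyn
    rw [← e]
    exact Abelianization.commutator_subset_ker m hy
  have hA : ∃ d ∈ relCharDegrees (N.map (QuotientGroup.mk' (⁅N, N⁆ : Subgroup G))),
      PiNum ω d := by
    obtain ⟨_, ⟨⟨χ, hχ⟩, hk, rfl⟩, hd⟩ := h.exA
    dsimp only at hk hd
    obtain ⟨θ, hθ, ho⟩ := exists_under (f := N.subtype) hχ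
    have hdeg : charDegree θ = 1 := by
      rcases H670.PSing.charDegree_pgroup hNp hθ with h1 | h1
      · exact h1
      · exact absurd (h1.trans (charDegree_dvd_of_over N hχ hθ ho).1) (hd.not_dvd hp.out hpω)
    obtain ⟨m, rfl⟩ := exists_hom_of_degree_one hθ hdeg
    exact ⟨_, mem_rel_map hχ (ker_of_over hDN hχ ho (htriv m)) hk, hd⟩
  have hB : ∃ d ∈ relCharDegrees (N.map (QuotientGroup.mk' (⁅N, N⁆ : Subgroup G))),
      PiNum ωᶜ d := by
    obtain ⟨χ, hχ, ho⟩ := exists_over N (lf l) (isIrr_lf l)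
    refine ⟨charDegree χ, mem_rel_map hχ (ker_of_over hDN hχ ho (htriv l)) ?_, hty χ hχ ho⟩
    by_contra hcon
    push Not at hcon
    letI := Fintype.ofFinite N
    rw [over_iff] at ho
    apply ho
    have e : χ ∘ N.subtype = (χ 1) • (1 : N → ℂ) := by
      funext n
      have := hcon n n.2
      simp only [Function.comp, Subgroup.coe_subtype, Pi.smul_apply, Pi.one_apply, smul_eq_mul,
        mul_one]
      exact this
    rw [e, classInner_smul_left, classInner_irr_ne isIrr_one (isIrr_lf l)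
      (Ne.symm (lf_ne_one hl)), mul_zero]
  have hNb : (N.map (QuotientGroup.mk' (⁅N, N⁆ : Subgroup G))).Normal :=
    hN.map _ (QuotientGroup.mk'_surjective _)
  have hNbp : IsPGroup p ↥(N.map (QuotientGroup.mk' (⁅N, N⁆ : Subgroup G))) := hNp.map _
  have hNbab : IsMulCommutative ↥(N.map (QuotientGroup.mk' (⁅N, N⁆ : Subgroup G))) := by
    refine isMulComm_of ?_
    rintro _ ⟨a, ha, rfl⟩ _ ⟨b, hb, rfl⟩
    rw [← commutatorElement_eq_one_iff_mul_comm, ← map_commutatorElement]
    exact (QuotientGroup.eq_one_iff _).2 (Subgroup.commutator_mem_commutator ha hb)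
  have hNbG : N.map (QuotientGroup.mk' (⁅N, N⁆ : Subgroup G)) ≤
      commutator (G ⧸ (⁅N, N⁆ : Subgroup G)) := by
    have h1 : (commutator G).map (QuotientGroup.mk' (⁅N, N⁆ : Subgroup G)) =
        commutator (G ⧸ (⁅N, N⁆ : Subgroup G)) := by
      rw [commutator_def, commutator_def, Subgroup.map_commutator,
        Subgroup.map_top_of_surjective _ (QuotientGroup.mk'_surjective _)]
    rw [← h1]
    exact Subgroup.map_mono h.le
  have hdisc := not_preconnected (fun d hd => one_lt_of_rel hNbG hd)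
    (fun d hd => h.typ d (rel_map_subset hd)) hA hB
  obtain ⟨P⟩ : Nonempty (Sylow p (G ⧸ (⁅N, N⁆ : Subgroup G))) := inferInstance
  obtain ⟨hPn, hPc, hPN, -⟩ := H673.disc_abelian p _ hNbp hNbab hNbG P hdisc
    (fun r _ T _ => hIM r _)
  refine split_of (QuotientGroup.map (⁅N, N⁆ : Subgroup G) N (MonoidHom.id G)
    (by rw [Subgroup.comap_id]; exact hDN)) ?_ P hPn hPc (hPN.trans ?_)
  · intro y
    obtain ⟨g, rfl⟩ := QuotientGroup.mk'_surjective N y
    exact ⟨QuotientGroup.mk' _ g, rfl⟩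
  · rintro _ ⟨a, ha, rfl⟩
    exact (QuotientGroup.eq_one_iff _).2 ha

end Cfsg.Agent.H353.DiscA
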