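import Cfsg.Agent.H709.PB.Guide
import Cfsg.Agent.H133.PB.Alt
import Cfsg.Agent.H30.IMFi24
import Cfsg.Agent.H843.N17
import Cfsg.Agent.H841.Phi

/-!
# S4826, the row of `Fi24'` (helper353)
-/

set_option autoImplicit false
set_option maxRecDepth 10000

namespace Cfsg.Agent.H353.PBFiTF

open Subgroup
open Cfsg Cfsg.Agent.H133.PB Cfsg.Agent.H30.IMFi24
open Cfsg.Agent.R08.FiTwentyFour (L finite_Fi24 index_commutator)
open Cfsg.Agent.H713.Spor.FiTF (finite')
open Cfsg.Agent.CTwoTab.FiTF
open Cfsg.Spor (Fi24)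

universe u v

/-! ### `p = 2` and most odd primes: an element of order 29 -/

theorem row_inv {p : ℕ} [hp : Fact p.Prime] (hp29 : p ≠ 29) {k : ℕ} (hk : p ^ k ∣ 1255205709190661721292800)
    (hn : ¬ p ^ k ∣ 321052999680 ^ 2) : Row p Spor.Fi24' := by
  have := finite'
  have : Fact (Nat.Prime 29) := ⟨by norm_num⟩
  obtain ⟨x, t, hx, hC, ht, ht1, hinv⟩ := exists_x
  obtain ⟨g, hg⟩ := conj_z0 hx ht ht1 hinv
  refine Row.intro (q := 29) (by norm_num) hp29.symm (by rw [card_F]; norm_num) ?_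
  refine BD.of_inverted (q := 29) (by norm_num) hp29.symm (by rw [card_F]; norm_num) ht hinv hx hC
    (k := k) (by rw [card_F]; exact hk) ?_
  intro hd
  apply hn
  refine hd.trans (pow_dvd_pow_of_dvd ?_ 2)
  rw [hg, Cfsg.Agent.Blocks.SylowIn.card_centralizer_of_isConj (isConj_iff.2 ⟨g, rfl⟩ : IsConj z0 _)]
  rw [← Cfsg.Agent.KFacts.FiTF.Order.card]
  let f : ↥(centralizer ({z0} : Set Spor.Fi24')) →* ↥(centralizer ({KFacts.FiTF.Defs.z} : Set Fi24)) :=
    ((commutator Fi24).subtype.comp (centralizer ({z0} : Set Spor.Fi24')).subtype).codRestrict _ (by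
      intro x
      rw [mem_centralizer_singleton_iff]
      exact congrArg Subtype.val (mem_centralizer_singleton_iff.1 x.2))
  refine Subgroup.card_dvd_of_injective f ?_
  intro x y h
  have h1 := (Subtype.mk.injEq _ _ _ _).mp h
  exact Subtype.ext (Subtype.ext h1)

theorem row_two : Row 2 Spor.Fi24' := by
  have := finite'
  have : Fact (Nat.Prime 29) := ⟨by norm_num⟩
  obtain ⟨x, t, hx, hC, ht, ht1, hinv⟩ := exists_x
  exact Row.of_real_odd (q := 29) (g := x) ⟨1, by rw [hx, pow_one]⟩ (by rintro rfl; rw [orderOf_one] at hx; omega)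
    (isConj_iff.2 ⟨t, hinv⟩) (by rw [hC]; decide)

/-! ### `p = 29`: an element of order 17 -/

theorem card_centralizer_of_order {G : Type*} [Group G] [Finite G] {q : ℕ} (hq : q.Prime) (h2 : ¬ q ^ 2 ∣ Nat.card G)
    {x y : G} (hx : orderOf x = q) (hy : orderOf y = q) :
    Nat.card (centralizer ({y} : Set G)) = Nat.card (centralizer ({x} : Set G)) := by
  have key : ∀ z : G, (centralizer ({z} : Set G)) = centralizer (zpowers z : Set G) := fun z =>
    (centralizer_zpowers_eq z).symm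
  obtain ⟨g, hg⟩ := H843.Syl.exists_conj hq h2 (zpowers x) (zpowers y) (by rw [Nat.card_zpowers, hx])
    (by rw [Nat.card_zpowers, hy])
  rw [key, key, ← hg]
  have h3 : centralizer (((zpowers x).map (MulAut.conj g).toMonoidHom : Subgroup G) : Set G) =
      (centralizer (zpowers x : Set G)).map (MulAut.conj g).toMonoidHom := by
    rw [H841.Transport.map_centralizer, H841.Transport.coe_map]
  rw [h3]
  exact card_map_of_injective (MulAut.conj g).injective

/-- no involution commutes with an element of order 29 -/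
theorem not_dvd_twentynine {t : Spor.Fi24'} (ht : orderOf t = 2) :
    ¬ 29 ∣ Nat.card (centralizer ({t} : Set Spor.Fi24')) := by
  have := finite'
  have : Fact (Nat.Prime 29) := ⟨by norm_num⟩
  intro hd
  obtain ⟨u, hu⟩ := exists_prime_orderOf_dvd_card' 29 hd
  obtain ⟨x, -, hx, hC, -⟩ := exists_x
  have h1 : orderOf (u : Spor.Fi24') = 29 := by rw [Subgroup.orderOf_coe, hu]
  have h2 := card_centralizer_of_order (by norm_num) (by rw [card_F]; norm_num) hx h1
  rw [hC] at h2
  have h3 : t ∈ centralizer ({(u : Spor.Fi24')} : Set Spor.Fi24') :=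
    mem_centralizer_singleton_iff.2 (mem_centralizer_singleton_iff.1 u.2).symm
  have h4 : orderOf (⟨t, h3⟩ : centralizer ({(u : Spor.Fi24')} : Set Spor.Fi24')) ∣ 29 := by
    rw [← h2]; exact orderOf_dvd_natCard _
  rw [Subgroup.orderOf_mk, ht] at h4
  norm_num at h4

theorem exists_seventeen : ∃ x : Spor.Fi24', orderOf x = 17 ∧ Nat.card (centralizer ({x} : Set Spor.Fi24')) = 17 ∧
    IsConj x x⁻¹ := by
  have hfin : Finite Spor.Fi24 := finite_Fi24
  have := finite'
  have hord := Cfsg.Agent.H843.D17.order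
  have hx := Cfsg.Agent.H843.Fi24N.mem_commutator (x := Cfsg.Agent.H843.D17.D.x) (by rw [hord]; decide)
  set X : Fi24 := Cfsg.Agent.H843.D17.D.x with hX
  have hp : X ^ 17 = 1 := by rw [← hord, pow_orderOf_eq_one]
  -- a transposition commuting with `x`
  obtain ⟨l, hlL, hlC⟩ : ∃ l, l ∈ L ∧ l ∈ centralizer (zpowers X : Set Fi24) := by
    obtain ⟨l, hmem⟩ : ∃ l, l ∈ L ∩ (centralizer (zpowers X : Set Fi24) : Set Fi24) := by
      rw [Cfsg.Agent.H843.D17.inter]; exact ⟨_, rfl⟩
    exact ⟨l, hmem.1, hmem.2⟩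
  have hl : l * X = X * l := H843.Cyc.mem_centralizer_zpowers.1 hlC
  refine ⟨⟨X, hx⟩, by rw [Subgroup.orderOf_mk, hord], ?_, ?_⟩
  · have h1 := Cfsg.Agent.H843.D17.main.2
    have h2 := Cfsg.Agent.H843.Fi24N.half hlC hlL
    rw [h1] at h2
    have h3 : Nat.card (commutator Fi24 ⊓ centralizer (zpowers X : Set Fi24) : Subgroup Fi24) = 17 := by omega
    rw [← h3, ← card_map_of_injective (K := centralizer ({(⟨X, hx⟩ : Spor.Fi24')} : Set Spor.Fi24'))
      (commutator Fi24).subtype_injective]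
    congr 1
    have h4 : (centralizer ({(⟨X, hx⟩ : Spor.Fi24')} : Set Spor.Fi24')).map (commutator Fi24).subtype =
        commutator Fi24 ⊓ centralizer (zpowers X : Set Fi24) := by
      ext g
      simp only [mem_inf, mem_map, Subgroup.coe_subtype]
      constructor
      · rintro ⟨y, h1, rfl⟩
        exact ⟨y.2, H843.Cyc.mem_centralizer_zpowers.2 (congrArg Subtype.val (mem_centralizer_singleton_iff.1 h1))⟩
      · rintro ⟨h1, h2⟩
        exact ⟨⟨g, h1⟩, mem_centralizer_singleton_iff.2 (Subtype.ext (H843.Cyc.mem_centralizer_zpowers.1 h2)), rfl⟩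
    rw [h4]
  · -- the element is real
    have h1 : Cfsg.Agent.Fischer.Fi24Rep.word H843.D17.w16 * X * (Cfsg.Agent.Fischer.Fi24Rep.word H843.D17.w16)⁻¹ =
        X ^ (17 - 1) := H843.Fi24N.conj_of_inv hp (by norm_num) H843.D17.h16
    obtain ⟨w, hw⟩ : ∃ w, w = Cfsg.Agent.Fischer.Fi24Rep.word H843.D17.w16 := ⟨_, rfl⟩
    rw [← hw] at h1
    have h2 : X ^ (17 - 1) = X⁻¹ := by
      refine eq_inv_of_mul_eq_one_left ?_
      rw [← pow_succ]
      exact hp
    rw [h2] at h1
    have key : ∀ g : Fi24, g * X * g⁻¹ = X⁻¹ → g ∈ commutator Fi24 → IsConj (⟨X, hx⟩ : Spor.Fi24') (⟨X, hx⟩ : Spor.Fi24')⁻¹ :=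
      fun g hg hgc => isConj_iff.2 ⟨⟨g, hgc⟩, Subtype.ext hg⟩
    by_cases hwc : w ∈ commutator Fi24
    · exact key w h1 hwc
    · refine key (w * l) ?_ ?_
      · calc w * l * X * (w * l)⁻¹ = w * (l * X) * l⁻¹ * w⁻¹ := by group
          _ = w * X * w⁻¹ := by rw [hl]; group
          _ = X⁻¹ := h1
      · have h3 : l ∉ commutator Fi24 := R08.FiTwentyFour.odd hlL
        exact (mul_mem_iff_of_index_two index_commutator).2 (iff_of_false hwc h3)

theorem row_29 : Row 29 Spor.Fi24' := by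
  have := finite'
  have : Fact (Nat.Prime 29) := ⟨by norm_num⟩
  have : Fact (Nat.Prime 17) := ⟨by norm_num⟩
  obtain ⟨x, hx, hC, hr⟩ := exists_seventeen
  refine Row.of_inverted (p := 29) (q := 17) (by norm_num) (by norm_num) (by rw [card_F]; norm_num) hx hr hC ?_
  intro t ht _
  refine ⟨1, by rw [card_F]; norm_num, ?_⟩
  rw [pow_one]
  intro h
  exact not_dvd_twentynine ht (Nat.Prime.dvd_of_dvd_pow (by norm_num) h)

/-! ### `p = 5` -/

theorem DZB.of_BD {p q : ℕ} [hp : Fact p.Prime] [hq : Fact q.Prime] {K : Type v} [Group K] [Finite K] (h : BD p q K)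
    (h2 : ¬ p ^ 2 ∣ Nat.card K) : DZB p q K := by
  obtain ⟨M, hM⟩ := Cfsg.Agent.Blocks.Knorr.exists_isPModular q
  obtain ⟨χ, hχ, hd⟩ := h M hM
  refine ⟨χ, fun M' hM' => mem_principalBlock_all hM hχ M' hM', ?_⟩
  have h3 : (Nat.card K).factorization p ≤ 1 := by
    by_contra hlt
    push Not at hlt
    exact h2 ((pow_dvd_pow p hlt).trans (Nat.ordProj_dvd _ _))
  exact h3.trans (hp.out.factorization_pos_of_dvd (Cfsg.Agent.Blocks.Basic.charDegree_pos χ.2).ne' hd)

section Five

open Equiv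
open Cfsg.Agent.H841.Five Cfsg.Agent.LThreeFi24.FiveConj Cfsg.Agent.LThreeFi24.SNine
open Cfsg.Agent.Fischer.Fi24Final (sgn ker_sgn)

theorem sgn_Phi (σ : Perm (Fin 9)) : sgn (Phi σ) = Perm.sign σ := by
  have h : (sgn.comp Phi) = Perm.sign := by
    apply Perm.eq_sign_of_surjective_hom
    have h1 : (sgn.comp Phi) (swap (0 : Fin 9) 1) = -1 := by
      have h2 : Phi (swap (0 : Fin 9) 1) ∈ L := Phi_swap_mem_L (by decide)
      have h3 : Phi (swap (0 : Fin 9) 1) ∉ commutator Fi24 := R08.FiTwentyFour.odd h2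
      rw [← ker_sgn, MonoidHom.mem_ker] at h3
      exact (Int.units_eq_one_or _).resolve_left h3
    intro u
    rcases Int.units_eq_one_or u with rfl | rfl
    · exact ⟨1, map_one _⟩
    · exact ⟨_, h1⟩
  exact DFunLike.congr_fun h σ

theorem y0_mem : y0 ∈ commutator Fi24 := H843.Fi24N.mem_commutator (by rw [orderOf_y0]; decide)

/-- the element of order 5 -/
def x5 : Spor.Fi24' := ⟨y0, y0_mem⟩

theorem order_x5 : orderOf x5 = 5 := by rw [x5, Subgroup.orderOf_mk, orderOf_y0]

theorem comm_of_mem (c : centralizer ({x5} : Set Spor.Fi24')) : ((c : Spor.Fi24') : Fi24) * y0 = y0 * ((c : Spor.Fi24') : Fi24) :=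
  congrArg Subtype.val (mem_centralizer_singleton_iff.1 c.2)

theorem sign_of {c : Fi24} {σ : Perm (Fin 9)} (hc : c ∈ commutator Fi24) (hy : c * y0 = y0 * c) (hR : R c σ) :
    σ ∈ alternatingGroup (Fin 9) := by
  obtain ⟨i, τ, -, hR', h⟩ := exists_of_comm hy
  rw [hR.uniq hR', Perm.mem_alternatingGroup, ← sgn_Phi]
  rw [← ker_sgn, MonoidHom.mem_ker] at hc
  have h1 : sgn y0 = 1 := by
    rw [← MonoidHom.mem_ker, ker_sgn]; exact y0_mem
  rw [h, map_mul, map_pow, h1, one_pow, one_mul] at hc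
  exact hc

/-- the homomorphism from the centralizer to `A₉` -/
noncomputable def f5 : centralizer ({x5} : Set Spor.Fi24') →* alternatingGroup (Fin 9) where
  toFun c := ⟨(exists_R (mem_G0.2 (comm_of_mem c))).choose,
    sign_of c.1.2 (comm_of_mem c) (exists_R (mem_G0.2 (comm_of_mem c))).choose_spec⟩
  map_one' := by
    apply Subtype.ext
    exact R.uniq (exists_R (mem_G0.2 (comm_of_mem 1))).choose_spec R.one
  map_mul' a b := by
    apply Subtype.ext
    exact R.uniq (exists_R (mem_G0.2 (comm_of_mem (a * b)))).choose_spec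
      ((exists_R (mem_G0.2 (comm_of_mem a))).choose_spec.mul (exists_R (mem_G0.2 (comm_of_mem b))).choose_spec)

theorem R_f5 (c : centralizer ({x5} : Set Spor.Fi24')) : R ((c : Spor.Fi24') : Fi24) (f5 c : Perm (Fin 9)) :=
  (exists_R (mem_G0.2 (comm_of_mem c))).choose_spec

theorem f5_surjective : Function.Surjective f5 := by
  rintro ⟨σ, hσ⟩
  have h1 : Phi σ ∈ commutator Fi24 := by
    rw [← ker_sgn, MonoidHom.mem_ker, sgn_Phi]
    exact Perm.mem_alternatingGroup.1 hσ
  have h2 : (⟨Phi σ, h1⟩ : Spor.Fi24') ∈ centralizer ({x5} : Set Spor.Fi24') :=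
    mem_centralizer_singleton_iff.2 (Subtype.ext (Phi_comm_y0 σ).eq)
  refine ⟨⟨_, h2⟩, Subtype.ext ?_⟩
  exact (R_f5 ⟨_, h2⟩).uniq (R_Phi σ)

theorem R_y0 : R y0 1 := by
  intro i j hij
  rw [Perm.one_apply, Perm.one_apply]
  exact rho_y_T hij

theorem f5_ker (c : centralizer ({x5} : Set Spor.Fi24')) : f5 c = 1 ↔ (c : Spor.Fi24') ∈ zpowers x5 := by
  constructor
  · intro h
    have h1 := R_f5 c
    rw [h] at h1
    obtain ⟨i, -, hi⟩ := exists_pow_of h1 (comm_of_mem c)
    refine ⟨i, Subtype.ext ?_⟩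
    show ((x5 ^ (i : ℤ) : Spor.Fi24') : Fi24) = _
    rw [hi, zpow_natCast]
    rfl
  · rintro ⟨i, hi⟩
    have h1 : ∀ i : ℤ, R (y0 ^ i) 1 := by
      have hn : ∀ n : ℕ, R (y0 ^ n) 1 := by
        intro n
        induction n with
        | zero => rw [pow_zero]; exact R.one
        | succ n ih =>
          rw [pow_succ]
          have := ih.mul R_y0
          rwa [mul_one] at this
      intro i
      rcases Int.eq_nat_or_neg i with ⟨n, rfl | rfl⟩
      · rw [zpow_natCast]; exact hn n
      · rw [zpow_neg, zpow_natCast]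
        have := (hn n).inv
        rwa [inv_one] at this
    apply Subtype.ext
    refine (R_f5 c).uniq ?_
    have h2 : x5 ^ i = (c : Spor.Fi24') := hi
    rw [← h2]
    show R ((x5 ^ i : Spor.Fi24') : Fi24) 1
    have h3 : ((x5 ^ i : Spor.Fi24') : Fi24) = y0 ^ i := rfl
    rw [h3]
    exact h1 i

theorem row_5 : Row 5 Spor.Fi24' := by
  have := finite'
  have : Fact (Nat.Prime 5) := ⟨by norm_num⟩
  have : Fact (Nat.Prime 2) := ⟨Nat.prime_two⟩
  refine Row.intro (q := 2) Nat.prime_two (by norm_num) (by rw [card_F]; norm_num) ?_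
  refine BD.of_elem (p := 5) (q := 2) (by norm_num) order_x5 (by rw [card_F]; norm_num) f5 f5_surjective f5_ker ?_
  apply DZB.of_BD (BD.alt_not_dvd (n := 9) (p := 5) (by norm_num) (by norm_num) (by norm_num) (by norm_num))
  rw [Nat.card_eq_fintype_card]
  have h1 : 2 * Fintype.card (alternatingGroup (Fin 9)) = 362880 := by
    rw [two_mul_card_alternatingGroup, Fintype.card_perm, Fintype.card_fin]; rfl
  have h2 : Fintype.card (alternatingGroup (Fin 9)) = 181440 := by omega
  rw [h2]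
  norm_num

end Five

/-- **The row of `Fi24'`.** -/
theorem row_fi24 {S : Type u} [Group S] (h : Cfsg.Spor.IsoFi24' S) {p : ℕ} (hp : p.Prime) (hd : p ∣ Nat.card S) :
    Cfsg.Agent.H133.PB.Row p S := by
  obtain ⟨e⟩ := h
  refine Row.of_equiv e ?_
  rw [Nat.card_congr e.toEquiv, card_F] at hd
  have := Fact.mk hp
  have hcases : p = 2 ∨ p = 3 ∨ p = 5 ∨ p = 7 ∨ p = 11 ∨ p = 13 ∨ p = 17 ∨ p = 23 ∨ p = 29 := by
    have h1 : p ∣ 2 ^ 21 * 3 ^ 16 * 5 ^ 2 * 7 ^ 3 * 11 * 13 * 17 * 23 * 29 := by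
      rw [show 2 ^ 21 * 3 ^ 16 * 5 ^ 2 * 7 ^ 3 * 11 * 13 * 17 * 23 * 29 = 1255205709190661721292800 by norm_num]
      exact hd
    have key : ∀ q : ℕ, q.Prime → p ∣ q → p = q := fun q hq h => (Nat.prime_dvd_prime_iff_eq hp hq).1 h
    rcases hp.dvd_mul.1 h1 with h1 | h1
    swap
    · right; right; right; right; right; right; right; right; exact key 29 (by norm_num) h1
    rcases hp.dvd_mul.1 h1 with h1 | h1
    swap
    · right; right; right; right; right; right; right; left; exact key 23 (by norm_num) h1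
    rcases hp.dvd_mul.1 h1 with h1 | h1
    swap
    · right; right; right; right; right; right; left; exact key 17 (by norm_num) h1
    rcases hp.dvd_mul.1 h1 with h1 | h1
    swap
    · right; right; right; right; right; left; exact key 13 (by norm_num) h1
    rcases hp.dvd_mul.1 h1 with h1 | h1
    swap
    · right; right; right; right; left; exact key 11 (by norm_num) h1
    rcases hp.dvd_mul.1 h1 with h1 | h1
    swap
    · right; right; right; left; exact key 7 (by norm_num) (hp.dvd_of_dvd_pow h1)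
    rcases hp.dvd_mul.1 h1 with h1 | h1
    swap
    · right; right; left; exact key 5 (by norm_num) (hp.dvd_of_dvd_pow h1)
    rcases hp.dvd_mul.1 h1 with h1 | h1
    swap
    · right; left; exact key 3 (by norm_num) (hp.dvd_of_dvd_pow h1)
    · left; exact key 2 (by norm_num) (hp.dvd_of_dvd_pow h1)
  rcases hcases with rfl | rfl | rfl | rfl | rfl | rfl | rfl | rfl | rfl
  · exact row_two
  · exact row_inv (by norm_num) (k := 15) (by norm_num) (by norm_num)
  · exact row_5
  · exact row_inv (by norm_num) (k := 3) (by norm_num) (by norm_num)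
  · exact row_inv (by norm_num) (k := 1) (by norm_num) (by norm_num)
  · exact row_inv (by norm_num) (k := 1) (by norm_num) (by norm_num)
  · exact row_inv (by norm_num) (k := 1) (by norm_num) (by norm_num)
  · exact row_inv (by norm_num) (k := 1) (by norm_num) (by norm_num)
  · exact row_29

end Cfsg.Agent.H353.PBFiTF
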