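import Cfsg.Agent.H249.TheoremD
import Cfsg.Agent.H396.HasCG
import Cfsg.Agent.H410.TwoTransRGD
import Cfsg.Agent.Nodes.NormalForm

/-!
# HUB H1: the normalizers of the Sylow `p`-subgroups are transitive if `p ∣ n` (helper353)

`normalizer_transitive` : `A : AS G Ω T`, `HasCG p T`, `p ∣ |Ω|`; every `N_T(U)`, `U` a Sylow `p`-subgroup of `T`, is
transitive on `Ω` (Theorem D of helper249 with the table of helper396).
-/

set_option autoImplicit false

namespace Cfsg.Agent.H353.TwoBorel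

open Cfsg.Agent.H384.TwoTrans Cfsg.Agent.H396
open CoxeterSystem Cfsg.Agent.ChevalleyStructure.CoxeterGeom Cfsg.Agent.Tits.Roots Cfsg.Agent.Tits.Core
  Cfsg.Agent.Tits.Exchange Cfsg.Agent.Nodes.Reps Cfsg.Agent.Nodes.BNOf Cfsg.Agent.Nodes.StabComb
  Cfsg.Agent.Nodes.Bruhat
open scoped Pointwise

theorem normalizer_transitive {G Ω : Type*} [Group G] [MulAction G Ω] {T : Subgroup G} (A : AS G Ω T) {p : ℕ}
    [hp : Fact p.Prime] (hCG : HasCG p ↥T) (hdvd : p ∣ Nat.card Ω) (U : Sylow p T) (a b : Ω) :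
    ∃ g ∈ Subgroup.normalizer ((U : Subgroup T) : Set T), g • a = b := by
  have hfT := A.finT
  obtain ⟨l, M, Ac, h, Tor, n, X, hl, hW, R, hX, hC, hM⟩ := hCG
  have hGG : GG M.toCoxeterSystem h Tor X = ⊤ := Cfsg.Agent.H410.TwoTransRGD.GG_eq_top_of_gen R hX
  obtain ⟨P, hP⟩ := (IsPGroup.exists_le_sylow R.isPGroup_Upos :
    ∃ P : Sylow p T, RGD.Sup X (RGD.Pos M.toCoxeterSystem h) ≤ P)
  have hPU : (P : Subgroup T) = RGD.Sup X (RGD.Pos M.toCoxeterSystem h) :=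
    Cfsg.Agent.Nodes.NormalForm.eq_U_of_isPGroup R P.isPGroup' hP (by rw [hGG]; exact le_top)
  obtain ⟨t, rfl⟩ := MulAction.exists_smul_eq T P U
  obtain ⟨g, hg, hgab⟩ := Cfsg.Agent.H249.TheoremD.borel_transitive A (MulEquiv.refl T) R hp.out hGG hC hdvd
    (t⁻¹ • a) (t⁻¹ • b)
  have hgN : g ∈ Subgroup.normalizer ((P : Subgroup T) : Set T) := by
    rw [hPU]
    exact R.B_le_normalizer_U hg
  refine ⟨t * g * t⁻¹, ?_, ?_⟩
  · rw [Subgroup.mem_normalizer_iff] at hgN ⊢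
    intro y
    have hmem : ∀ y : T, y ∈ ((t • P : Sylow p T) : Subgroup T) ↔ t⁻¹ * y * t ∈ (P : Subgroup T) := by
      intro y
      rw [Sylow.coe_subgroup_smul, Subgroup.mem_pointwise_smul_iff_inv_smul_mem]
      have : (MulAut.conj t)⁻¹ • y = t⁻¹ * y * t := by
        rw [← map_inv, MulAut.smul_def, MulAut.conj_apply, inv_inv]
      rw [this]
    rw [hmem, hmem, hgN]
    have e : t⁻¹ * (t * g * t⁻¹ * y * (t * g * t⁻¹)⁻¹) * t = g * (t⁻¹ * y * t) * g⁻¹ := by group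
    rw [e]
  · have h1 : g • (t⁻¹ • a) = t⁻¹ • b := hgab
    rw [mul_smul, mul_smul, h1, smul_inv_smul]

end Cfsg.Agent.H353.TwoBorel
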