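import Mathlib

/-!
# HUB H1, orthogonal groups: the arithmetic of the degrees (helper353)

* `deg_B` : `q ^ (2 m - 2) ∣ n`, `n - 1 ∣ N = (q ^ 2 m - 1) (q ^ (2 m - 2) - 1) / (q ^ 2 - 1)` give
  `n = q ^ 2 m` or `n = q ^ (2 m - 2)`;
* `deg_D` : `q ^ (2 m - 3) ∣ n`, `n - 1 ∣ N = (q ^ m - ε) (q ^ (m - 1) + ε) (q ^ (m - 1) - ε) (q ^ (m - 2) + ε) /
  (q ^ 2 - 1)` give `n = q ^ (2 m - 2)`.
-/

set_option autoImplicit false

namespace Cfsg.Agent.H353.TwoOrth.Arith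

theorem arith_D {q N R n' d : ℤ} (hq : 2 ≤ q) (hR : 0 < R) (hn : 1 ≤ n') (hd : 0 < d)
    (h : (N * n' - 1) * d = R * (q * N - 1)) (hN : R * (q - 1) < N - 1) : n' = q := by
  have hRN : R < N := by nlinarith
  obtain ⟨j, hj⟩ : ∃ j, j = n' * d - R * q := ⟨_, rfl⟩
  have h1 : d = R + N * j := by rw [hj]; linear_combination -h
  rcases lt_trichotomy j 0 with h0 | h0 | h0
  · nlinarith
  · rw [h0] at hj h1
    rw [mul_zero, add_zero] at h1
    rw [h1] at hj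
    have h2 : R * (n' - q) = 0 := by linear_combination -hj
    rcases mul_eq_zero.1 h2 with h3 | h3
    · omega
    · omega
  · exfalso
    have h2 : R + N ≤ d := by nlinarith
    have h3 : (N - 1) * (R + N) ≤ (N * n' - 1) * d := by
      apply mul_le_mul
      · nlinarith
      · exact h2
      · nlinarith
      · nlinarith
    rw [h] at h3
    nlinarith

theorem arith_B {q N S n' d : ℤ} (hq : 2 ≤ q) (hR : 0 < S) (hn : 1 ≤ n') (hd : 0 < d)
    (h : (N * n' - 1) * d = S * (q ^ 2 * N - 1)) (hN : S * (q ^ 2 - 1) = N - 1) : n' = q ^ 2 ∨ n' = 1 := by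
  have hq2 : 4 ≤ q ^ 2 := by nlinarith
  have hSN : S < N := by nlinarith
  obtain ⟨j, hj⟩ : ∃ j, j = n' * d - S * q ^ 2 := ⟨_, rfl⟩
  have h1 : d = S + N * j := by rw [hj]; linear_combination -h
  rcases lt_trichotomy j 0 with h0 | h0 | h0
  · nlinarith
  · left
    rw [h0] at hj h1
    rw [mul_zero, add_zero] at h1
    rw [h1] at hj
    have h2 : S * (n' - q ^ 2) = 0 := by linear_combination -hj
    rcases mul_eq_zero.1 h2 with h3 | h3
    · omega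
    · linarith
  · right
    by_contra hcon
    have hn2 : 2 ≤ n' := by omega
    have h2 : S + N ≤ d := by nlinarith
    have h3 : (N * 2 - 1) * (S + N) ≤ (N * n' - 1) * d := by
      apply mul_le_mul
      · nlinarith
      · exact h2
      · nlinarith
      · nlinarith
    have h4 : S * (q ^ 2 * N - 1) = (N - 1) * (S + N) := by linear_combination N * hN
    rw [h, h4] at h3
    nlinarith

theorem deg_B {q m n N z z' : ℕ} (hq : 2 ≤ q) (hm : 3 ≤ m) (hn : 2 ≤ n) (hz : z = q ^ (2 * m))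
    (hzz : z = q ^ (2 * m + 1 - 2) * (q - 1) + z' * q) (hN : N * (q ^ 2 - 1) = (z - 1) * (z' - 1))
    (h1 : q ^ (2 * m + 1 - 4 + 1) ∣ n) (h2 : (n - 1) ∣ N) : n = q ^ (2 * m) ∨ n = q ^ (2 * m - 2) := by
  obtain ⟨l, rfl⟩ : ∃ l, m = l + 1 := ⟨m - 1, by omega⟩
  obtain ⟨r, rfl⟩ : ∃ r, q = r + 1 := ⟨q - 1, by omega⟩
  have e1 : 2 * (l + 1) + 1 - 2 = 2 * l + 1 := by omega
  have e2 : 2 * (l + 1) + 1 - 4 + 1 = 2 * l := by omega
  have e3 : 2 * (l + 1) - 2 = 2 * l := by omega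
  have e4 : 2 * (l + 1) = 2 * l + 2 := by ring
  rw [e3, e4]
  rw [e4] at hz
  rw [e1] at hzz
  rw [e2] at h1
  have hz' : z' = (r + 1) ^ (2 * l) := by
    rw [hz, Nat.add_sub_cancel] at hzz
    have h3 : (r + 1) ^ (2 * l) * (r + 1) = z' * (r + 1) := by
      have h4 : (r + 1) ^ (2 * l + 2) = (r + 1) ^ (2 * l + 1) * r + (r + 1) ^ (2 * l) * (r + 1) := by ring
      omega
    exact (Nat.eq_of_mul_eq_mul_right (by omega) h3).symm
  obtain ⟨d, rfl⟩ := h2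
  obtain ⟨n', rfl⟩ := h1
  obtain ⟨S, hS⟩ : (r + 1) ^ 2 - 1 ∣ (r + 1) ^ (2 * l) - 1 := by
    rw [pow_mul]
    exact Nat.sub_one_dvd_pow_sub_one _ _
  have hM : 1 ≤ (r + 1) ^ (2 * l) := Nat.one_le_pow _ _ (by omega)
  have hM' : 1 ≤ (r + 1) ^ (2 * l + 2) := Nat.one_le_pow _ _ (by omega)
  have hq2 : 1 ≤ (r + 1) ^ 2 := Nat.one_le_pow _ _ (by omega)
  have hM2 : (r + 1) ^ 2 ≤ (r + 1) ^ (2 * l) := Nat.pow_le_pow_right (by omega) (by omega)
  have hq4 : 4 ≤ (r + 1) ^ 2 := by nlinarith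
  subst hz hz'
  have hn' : 1 ≤ n' := by
    rcases Nat.eq_zero_or_pos n' with h | h
    · subst h; omega
    · exact h
  have hSp : 0 < S := by
    rcases Nat.eq_zero_or_pos S with h | h
    · subst h; omega
    · exact h
  have hd : 0 < d := by
    rcases Nat.eq_zero_or_pos d with h | h
    · subst h
      rw [mul_zero, zero_mul] at hN
      rcases mul_eq_zero.1 hN.symm with h | h
      · have : (r + 1) ^ (2 * l) ≤ (r + 1) ^ (2 * l + 2) := Nat.pow_le_pow_right (by omega) (by omega)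
        omega
      · omega
    · exact h
  zify [hM, hM', hq2, (by omega : 1 ≤ (r + 1) ^ (2 * l) * n')] at hN hS
  have hkey : (((r : ℤ) + 1) ^ (2 * l) * n' - 1) * d = S * (((r : ℤ) + 1) ^ 2 * ((r : ℤ) + 1) ^ (2 * l) - 1) := by
    have h3 : (((r : ℤ) + 1) ^ 2 - 1) ≠ 0 := by
      have : (4 : ℤ) ≤ ((r : ℤ) + 1) ^ 2 := by exact_mod_cast hq4
      omega
    apply mul_left_cancel₀ h3
    rw [hS] at hN
    linear_combination hN
  rcases arith_B (q := (r : ℤ) + 1) (N := ((r : ℤ) + 1) ^ (2 * l)) (S := S) (n' := n') (d := d) (by omega) (by omega)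
    (by omega) (by omega) hkey (by rw [mul_comm]; exact hS.symm) with h | h
  · left
    have : n' = (r + 1) ^ 2 := by exact_mod_cast h
    rw [this]
    ring
  · right
    have : n' = 1 := by exact_mod_cast h
    rw [this, mul_one]

/-- common part of the two families of type `D`, `ε = ± 1` -/
theorem deg_D {q m n N z z' : ℕ} {ε : ℤ} (hε : ε = 1 ∨ ε = -1) (hq : 2 ≤ q) (hm : 4 ≤ m) (hn : 2 ≤ n)
    (hz : (z : ℤ) = (q : ℤ) ^ (2 * m - 1) + ε * ((q : ℤ) ^ m - (q : ℤ) ^ (m - 1)))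
    (hzz : z = q ^ (2 * m - 2) * (q - 1) + z' * q) (hN : N * (q ^ 2 - 1) = (z - 1) * (z' - 1))
    (h1 : q ^ (2 * m - 4 + 1) ∣ n) (h2 : (n - 1) ∣ N) : n = q ^ (2 * m - 2) := by
  obtain ⟨l, rfl⟩ : ∃ l, m = l + 2 := ⟨m - 2, by omega⟩
  obtain ⟨Q, hQ⟩ : ∃ Q : ℤ, Q = (q : ℤ) := ⟨_, rfl⟩
  have e1 : 2 * (l + 2) - 2 = 2 * l + 2 := by omega
  have e2 : 2 * (l + 2) - 1 = 2 * l + 3 := by omega
  have e3 : 2 * (l + 2) - 4 + 1 = 2 * l + 1 := by omega
  have e4 : l + 2 - 1 = l + 1 := by omega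
  rw [e1]
  rw [e2, e4, ← hQ] at hz
  rw [e1] at hzz
  rw [e3] at h1
  have hQ2 : 2 ≤ Q := by omega
  have hQ0 : Q ≠ 0 := by omega
  have hl : 2 ≤ l := by omega
  have hz' : (z' : ℤ) = Q ^ (2 * l + 1) + ε * (Q ^ (l + 1) - Q ^ l) := by
    zify [(by omega : 1 ≤ q)] at hzz
    rw [hz, ← hQ] at hzz
    apply mul_right_cancel₀ hQ0
    linear_combination -hzz
  -- bounds
  obtain ⟨P, hP⟩ : ∃ P : ℤ, P = Q ^ l := ⟨_, rfl⟩
  have hPQ : Q < P := by
    have h3 : Q ^ 2 ≤ Q ^ l := pow_le_pow_right₀ (by omega) hl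
    rw [hP]
    nlinarith
  have p1 : Q ^ (2 * l + 3) = P ^ 2 * Q ^ 3 := by rw [hP]; ring
  have p2 : Q ^ (l + 2) = P * Q ^ 2 := by rw [hP]; ring
  have p3 : Q ^ (l + 1) = P * Q := by rw [hP]; ring
  have p4 : Q ^ (2 * l + 1) = P ^ 2 * Q := by rw [hP]; ring
  have hεε : ε ^ 2 = 1 := by rcases hε with h | h <;> subst h <;> norm_num
  have hε1 : -1 ≤ ε ∧ ε ≤ 1 := by rcases hε with h | h <;> omega
  have z1 : (z : ℤ) - 1 = (P * Q ^ 2 - ε) * (P * Q + ε) := by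
    rw [hz, p1, p2, p3]
    linear_combination hεε
  have z2 : (z' : ℤ) - 1 = (P * Q - ε) * (P + ε) := by
    rw [hz', p3, p4, ← hP]
    linear_combination hεε
  have hPQ2 : 2 ≤ P * Q := by nlinarith
  have hPQQ : 2 ≤ P * Q ^ 2 := by nlinarith
  have hz1 : (0 : ℤ) < (z : ℤ) - 1 := by
    rw [z1]
    apply mul_pos <;> omega
  have hz2 : (0 : ℤ) < (z' : ℤ) - 1 := by
    rw [z2]
    apply mul_pos <;> omega
  have hq1 : 1 ≤ q ^ 2 := Nat.one_le_pow _ _ (by omega)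
  obtain ⟨d, rfl⟩ := h2
  obtain ⟨n', rfl⟩ := h1
  zify [(by omega : 1 ≤ z), (by omega : 1 ≤ z'), hq1, (by omega : 1 ≤ q ^ (2 * l + 1) * n')] at hN
  rw [z1, z2, ← hQ, p4] at hN
  obtain ⟨S, hS⟩ : Q ^ 2 - 1 ∣ (Q ^ 2) ^ (l + 1) - 1 ^ (l + 1) := sub_dvd_pow_sub_pow _ _ _
  rw [one_pow, ← pow_mul, show 2 * (l + 1) = l + l + 2 by ring, pow_add, pow_add, ← hP] at hS
  have hQ21 : 0 < Q ^ 2 - 1 := by nlinarith
  have hR : (Q ^ 2 - 1) * (S + ε * P) = (P * Q ^ 2 - ε) * (P + ε) := by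
    linear_combination -hS + hεε
  have hkey : (P ^ 2 * Q * n' - 1) * d = (S + ε * P) * (Q * (P ^ 2 * Q) - 1) := by
    apply mul_left_cancel₀ hQ21.ne'
    linear_combination hN + (Q * (P ^ 2 * Q) - 1) * (-hR) + (P * Q ^ 2 - ε) * (P + ε) * (-hεε)
  have hRpos : 0 < S + ε * P := by
    have h3 : 0 < (Q ^ 2 - 1) * (S + ε * P) := by
      rw [hR]
      apply mul_pos <;> omega
    exact (mul_pos_iff_of_pos_left hQ21).1 h3
  have hlt : (S + ε * P) * (Q - 1) < P ^ 2 * Q - 1 := by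
    have h3 : (S + ε * P) * (Q - 1) * (Q + 1) < (P ^ 2 * Q - 1) * (Q + 1) := by
      have h4 : (S + ε * P) * (Q - 1) * (Q + 1) = P ^ 2 * Q ^ 2 - 1 + ε * (P * (Q ^ 2 - 1)) := by
        linear_combination hR - hεε
      rw [h4]
      have h5 : ε * (P * (Q ^ 2 - 1)) ≤ P * (Q ^ 2 - 1) :=
        mul_le_of_le_one_left (mul_pos (show 0 < P by omega) hQ21).le hε1.2
      have h6 : 0 < (P * Q + 1) * (P - Q) := by apply mul_pos <;> omega
      have h7 : (P * Q + 1) * (P - Q) = P ^ 2 * Q - P * (Q ^ 2 - 1) - Q := by ring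
      rw [h7] at h6
      have h8 : (P ^ 2 * Q - 1) * (Q + 1) = P ^ 2 * Q ^ 2 + P ^ 2 * Q - Q - 1 := by ring
      rw [h8]
      linarith
    exact lt_of_mul_lt_mul_right h3 (by omega)
  have hn' : 1 ≤ n' := by
    rcases Nat.eq_zero_or_pos n' with h | h
    · subst h; omega
    · exact h
  have hd : 0 < d := by
    rcases Nat.eq_zero_or_pos d with h | h
    · subst h
      exfalso
      rw [Nat.cast_zero, mul_zero] at hkey
      have h7 : 0 < (S + ε * P) * (Q * (P ^ 2 * Q) - 1) := by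
        apply mul_pos hRpos
        nlinarith
      omega
    · exact h
  have h8 := arith_D (q := Q) (N := P ^ 2 * Q) (R := S + ε * P) (n' := n') (d := d) hQ2 hRpos (by omega) (by omega)
    hkey hlt
  have h9 : n' = q := by
    rw [hQ] at h8
    exact_mod_cast h8
  rw [h9]
  ring

end Cfsg.Agent.H353.TwoOrth.Arith
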