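import Cfsg.Agent.H353.TwoOrthSyl
import Cfsg.Agent.H353.TwoOrthLine
import Cfsg.Agent.H353.TwoOrthCount

/-!
# HUB H1, orthogonal groups: long root data of `E Q` modulo a central subgroup (helper353)
-/

set_option autoImplicit false
set_option linter.unusedSectionVars false
set_option linter.unusedVariables false
set_option linter.unusedSimpArgs false

namespace Cfsg.Agent.H353.TwoOrth

open QuadraticMap Cfsg.Agent.LieClassical.OrthCore Cfsg.Agent.LieClassical.OrthTrans
open Cfsg.Agent.LieClassical.OrthSimple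
open Cfsg.Agent.LieClassical.OrthFinite Cfsg.Agent.H955 Cfsg.Agent.GenOrth Cfsg.Agent.H353.TwoLong

theorem cj_map {K T : Type*} [Group K] [Group T] (φ : K →* T) (g : K) (X : Subgroup K) :
    (cj g X).map φ = cj (φ g) (X.map φ) := by
  ext t
  constructor
  · rintro ⟨k, hk, rfl⟩
    rw [mem_cj]
    refine ⟨g⁻¹ * k * g, mem_cj.1 hk, ?_⟩
    simp
  · intro ht
    rw [mem_cj] at ht
    obtain ⟨k, hk, e⟩ := ht
    refine ⟨g * k * g⁻¹, mem_cj.2 (by have : g⁻¹ * (g * k * g⁻¹) * g = k := by group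
                                      rw [this]; exact hk), ?_⟩
    rw [map_mul, map_mul, e, map_inv]
    group

theorem card_map_of {K T : Type*} [Group K] [Group T] (φ : K →* T) (H : Subgroup K)
    (h : ∀ k ∈ H, φ k = 1 → k = 1) : Nat.card (H.map φ) = Nat.card H := by
  have hinj : Function.Injective (φ.comp H.subtype) := by
    rw [injective_iff_map_eq_one]
    intro k hk
    exact Subtype.ext (h k k.2 hk)
  have h1 : (φ.comp H.subtype).range = H.map φ := by
    rw [MonoidHom.range_comp, Subgroup.range_subtype]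
  rw [← h1]
  exact (Nat.card_congr (MonoidHom.ofInjective hinj).toEquiv).symm

variable {F V : Type*} [Field F] [AddCommGroup V] [Module F V] {Q : QuadraticForm F V}

theorem scalar_of_center (hG : Good Q) {g : ↥(E Q)} (hg : g ∈ Subgroup.center ↥(E Q)) :
    ∃ c : F, ∀ v : V, (g : V ≃ₗ[F] V) v = c • v := by
  have hNE : (Subgroup.center ↥(E Q)).map (E Q).subtype ≤ E Q := Subgroup.map_subtype_le _
  have hN' : ∀ x ∈ E Q, ∀ n ∈ (Subgroup.center ↥(E Q)).map (E Q).subtype,
      x * n * x⁻¹ ∈ (Subgroup.center ↥(E Q)).map (E Q).subtype := by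
    rintro x hx _ ⟨n, hn, rfl⟩
    have h1 := Subgroup.mem_center_iff.1 hn ⟨x, hx⟩
    refine ⟨n, hn, ?_⟩
    have h2 := congrArg Subtype.val h1
    change x * n.1 = n.1 * x at h2
    change n.1 = x * n.1 * x⁻¹
    rw [h2, mul_inv_cancel_right]
  rcases good_normal_dichotomy hG hNE hN' with h | h
  · exact h g.1 ⟨g, hg, rfl⟩
  · exfalso
    have h1 : Subgroup.center ↥(E Q) = ⊤ := by
      rw [eq_top_iff]
      intro x _
      have : x.1 ∈ (Subgroup.center ↥(E Q)).map (E Q).subtype := by rw [h]; exact x.2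
      obtain ⟨y, hy, hxy⟩ := this
      rwa [← Subtype.ext (show y.1 = x.1 from hxy)]
    have h2 := good_isSimpleGroup hG
    obtain ⟨x, hx⟩ := exists_ne (1 : ↥(E Q) ⧸ Subgroup.center ↥(E Q))
    obtain ⟨x, rfl⟩ := QuotientGroup.mk_surjective x
    exact hx ((QuotientGroup.eq_one_iff x).2 (by rw [h1]; exact Subgroup.mem_top x))

section

variable {p : ℕ} [hp : Fact p.Prime] [CharP F p]

/-- central elements of `p`-power order are trivial -/
theorem center_pow (hG : Good Q) {g : ↥(E Q)} (hg : g ∈ Subgroup.center ↥(E Q)) {k : ℕ} (hk : g ^ p ^ k = 1) :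
    g = 1 := by
  obtain ⟨c, hc⟩ := scalar_of_center hG hg
  obtain ⟨x, hx0, hx⟩ := hG.sing
  have hpow : ∀ n : ℕ, ((g ^ n : ↥(E Q)) : V ≃ₗ[F] V) x = c ^ n • x := by
    intro n
    induction n with
    | zero => simp
    | succ n ih =>
      have : ((g ^ (n + 1) : ↥(E Q)) : V ≃ₗ[F] V) x = ((g ^ n : ↥(E Q)) : V ≃ₗ[F] V) ((g : V ≃ₗ[F] V) x) := rfl
      rw [this, hc, map_smul, ih, smul_smul, pow_succ, mul_comm]
  have h3 := hpow (p ^ k)
  rw [hk] at h3
  have h4 : (c ^ p ^ k - 1) • x = 0 := by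
    rw [sub_smul, ← h3, one_smul]
    exact sub_self x
  have h5 : c ^ p ^ k = 1 := by
    rcases smul_eq_zero.1 h4 with h6 | h6
    · exact sub_eq_zero.1 h6
    · exact absurd h6 hx0
  have hE : ExpChar F p := ExpChar.prime hp.out
  have h6 := (ExpChar.pow_prime_pow_mul_eq_one_iff p k 1 c).1 (by rw [mul_one]; exact h5)
  rw [pow_one] at h6
  apply Subtype.ext
  apply LinearEquiv.ext
  intro v
  rw [hc, h6, one_smul]
  rfl

theorem xh_pow {x y : V} (h : TS Q x y) (c : Multiplicative F) : (xh h c) ^ p = 1 := by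
  rw [← map_pow]
  have : c ^ p = 1 := by
    apply Multiplicative.toAdd.injective
    rw [toAdd_pow, toAdd_one, nsmul_eq_mul, CharP.cast_eq_zero, zero_mul]
  rw [this, map_one]

theorem cj_XG_pow {x y : V} (h : TS Q x y) {g k : ↥(E Q)} (hk : k ∈ cj g (XG h)) : k ^ p = 1 := by
  rw [mem_cj] at hk
  obtain ⟨c, hc⟩ := hk
  have h1 : k = g * xh h c * g⁻¹ := by rw [hc]; group
  rw [h1, conj_pow, xh_pow]
  group

theorem RE_mem {z : ↥(E Q)} (hz : z ∈ RE Q) : z ^ p = 1 := by
  obtain ⟨x, y, h, hz⟩ := hz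
  have : z = xh h (Multiplicative.ofAdd 1) := by
    apply Subtype.ext
    apply LinearEquiv.ext
    intro v
    rw [hz, xh_apply', one_smul]
  rw [this, xh_pow]

omit hp [CharP F p] in
theorem RE_ne (hQ : Nondeg Q) {z : ↥(E Q)} (hz : z ∈ RE Q) : z ≠ 1 := by
  obtain ⟨x, y, h, hz⟩ := hz
  rintro rfl
  obtain ⟨v, hv1, hv2⟩ := h.exists_sep hQ 1 0
  have h1 := hz v
  rw [Rf, hv1, hv2, one_smul, zero_smul, sub_zero] at h1
  have h2 : y = 0 := left_eq_add.1 h1
  exact h.right_ne h2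

/-- **long root data of orthogonal groups** -/
theorem orth_LR [Finite F] (hG : Good Q) (hd : 7 ≤ Module.finrank F V) {T : Type*} [Group T] (φ : ↥(E Q) →* T)
    (hφ : Function.Surjective φ) (hker : φ.ker ≤ Subgroup.center ↥(E Q)) :
    ∃ X : Subgroup T, LR p (Nat.card F) (Module.finrank F V - 4) (RE Q).ncard X := by
  classical
  have hfd : FiniteDimensional F V := Module.finite_of_finrank_pos (by omega)
  have hfV : Finite V := Module.finite_of_finite F
  have hfE : Finite (V ≃ₗ[F] V) := Finite.of_injective (fun g : V ≃ₗ[F] V => (g : V → V)) DFunLike.coe_injective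
  have hFF := Fintype.ofFinite F
  obtain ⟨x, x', hx⟩ := hG.exists_hyp
  obtain ⟨y, y', h⟩ := exists_Fr hG hx
  have hkp : ∀ k : ↥(E Q), φ k = 1 → ∀ n : ℕ, k ^ p ^ n = 1 → k = 1 := fun k hk n hn =>
    center_pow hG (hker hk) hn
  have hkp1 : ∀ k : ↥(E Q), φ k = 1 → k ^ p = 1 → k = 1 := fun k hk hn =>
    hkp k hk 1 (by rw [pow_one]; exact hn)
  have hXp : ∀ k ∈ XG h.ts, k ^ p = 1 := by
    rintro _ ⟨c, rfl⟩
    exact xh_pow h.ts c
  obtain ⟨f, -, hf⟩ := FiniteField.card F p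
  refine ⟨(XG h.ts).map φ, ⟨hp.out, ⟨f, f.pos, by rw [Nat.card_eq_fintype_card, hf]⟩, ?_, ?_, ?_, ?_, ?_⟩⟩
  · -- card
    rw [card_map_of φ _ fun k hk hk1 => hkp1 k hk1 (hXp k hk), card_XG hG.nondeg]
  · -- centre
    obtain ⟨U, hU⟩ := exists_sylow h hG.nondeg (by omega) p
    refine ⟨U.mapSurjective hφ, fun t => ⟨?_, ?_⟩⟩
    · rintro ⟨z, hz, rfl⟩
      obtain ⟨h1, h2⟩ := (hU z).1 hz
      refine ⟨⟨z, h1, rfl⟩, ?_⟩
      rintro _ ⟨u, hu, rfl⟩
      rw [← map_mul, h2 u hu, map_mul]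
    · rintro ⟨⟨z, hz, rfl⟩, h2⟩
      refine ⟨z, (hU z).2 ⟨hz, fun u hu => ?_⟩, rfl⟩
      have h3 := h2 (φ u) ⟨u, hu, rfl⟩
      have h4 : φ (z * u * (u * z)⁻¹) = 1 := by
        rw [map_mul, map_inv, map_mul, map_mul, h3, mul_inv_cancel]
      have h5 : z * u * (u * z)⁻¹ ∈ (U : Subgroup ↥(E Q)) := mul_mem (mul_mem hz hu) (inv_mem (mul_mem hu hz))
      obtain ⟨n, hn⟩ := U.2 ⟨_, h5⟩
      have h6 := hkp _ h4 n (congrArg Subtype.val hn)
      exact mul_inv_eq_one.1 h6
  · -- the line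
    obtain ⟨L, g, hL, hdis⟩ := exists_line hG hd h.ts
    have hcard : Fintype.card (Option F) = Nat.card F + 1 := by
      rw [Fintype.card_option, Nat.card_eq_fintype_card]
    let e : Fin (Nat.card F + 1) ≃ Option F := (Fintype.equivFinOfCardEq hcard).symm
    refine ⟨L.map φ, fun i => φ (g (e i)), fun t => ⟨?_, ?_⟩, ?_⟩
    · rintro ⟨k, hk, rfl⟩
      obtain ⟨i, hi⟩ := (hL k).1 hk
      refine ⟨e.symm i, ?_⟩
      rw [← cj_map, Equiv.apply_symm_apply]
      exact ⟨k, hi, rfl⟩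
    · rintro ⟨i, hi⟩
      rw [← cj_map] at hi
      obtain ⟨k, hk, rfl⟩ := hi
      exact ⟨k, (hL k).2 ⟨_, hk⟩, rfl⟩
    · intro i j hij t hi hj
      rw [← cj_map] at hi hj
      obtain ⟨k, hk, rfl⟩ := hi
      obtain ⟨k', hk', e1⟩ := hj
      have h1 : k * k'⁻¹ ∈ L := mul_mem ((hL k).2 ⟨_, hk⟩) (inv_mem ((hL k').2 ⟨_, hk'⟩))
      obtain ⟨l, hl⟩ := (hL _).1 h1
      have h2 : φ (k * k'⁻¹) = 1 := by rw [map_mul, map_inv, e1, mul_inv_cancel]
      have h3 := hkp1 _ h2 (cj_XG_pow h.ts hl)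
      have h4 : k = k' := mul_inv_eq_one.1 h3
      subst h4
      rw [hdis (e i) (e j) (fun hc => hij (e.injective hc)) k hk hk', map_one]
  · -- the Heisenberg group
    have hYp : IsPGroup p (YG Q x y) := IsPGroup.of_card (n := f * (2 * (Module.finrank F V - 4) + 1)) (by
      rw [card_YG h, Nat.card_eq_fintype_card, hf, ← pow_mul])
    have hYk : ∀ k ∈ YG Q x y, φ k = 1 → k = 1 := by
      intro k hk hk1
      obtain ⟨n, hn⟩ := hYp ⟨k, hk⟩
      exact hkp k hk1 n (congrArg Subtype.val hn)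
    refine ⟨(YG Q x y).map φ, ?_, ?_⟩
    · rw [card_map_of φ _ hYk, card_YG h]
    · intro D hD hDX
      have h1 : (YG Q x y ⊓ D.comap φ).map φ = D := by
        ext t
        constructor
        · rintro ⟨k, hk, rfl⟩
          exact hk.2
        · intro ht
          obtain ⟨k, hk, rfl⟩ := hD ht
          exact ⟨k, ⟨hk, ht⟩, rfl⟩
      have h2 : ∀ k ∈ YG Q x y ⊓ D.comap φ, φ k = 1 → k = 1 := fun k hk hk1 => hYk k (Subgroup.mem_inf.1 hk).1 hk1
      rw [← h1, card_map_of φ _ h2]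
      refine card_le h hG.nondeg _ inf_le_left ?_
      intro k hk hkX
      obtain ⟨h3, h4⟩ := Subgroup.mem_inf.1 hk
      exact hYk k h3 (hDX _ h4 ⟨k, hkX, rfl⟩)
  · -- the number of elements
    have hset : {t : T | t ≠ 1 ∧ ∃ g : T, t ∈ cj g ((XG h.ts).map φ)} = φ '' (RE Q) := by
      ext t
      constructor
      · rintro ⟨ht1, g, ht⟩
        obtain ⟨g, rfl⟩ := hφ g
        rw [← cj_map] at ht
        obtain ⟨k, hk, rfl⟩ := ht
        obtain ⟨c, hc⟩ := (mem_cj_XG h.ts).1 hk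
        have hc0 : c ≠ 0 := by
          rintro rfl
          apply ht1
          have : k = 1 := by
            apply Subtype.ext
            apply LinearEquiv.ext
            intro v
            rw [hc v]
            simp
          rw [this, map_one]
        have hts := h.ts.map (E_le_O g.2)
        have hts' : TS Q ((g : V ≃ₗ[F] V) x) (c • (g : V ≃ₗ[F] V) y) := by
          have := hts.comb (a := 1) (b := 0) (c := 0) (d := c) (by simpa using hc0)
          simpa using this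
        refine ⟨k, ⟨_, _, hts', fun v => ?_⟩, rfl⟩
        rw [hc v, Rf, polar_smul_left]
        simp only [smul_eq_mul]
        module
      · rintro ⟨k, hk, rfl⟩
        refine ⟨fun hk1 => RE_ne hG.nondeg hk (hkp1 k hk1 (RE_mem hk)), ?_⟩
        obtain ⟨x1, y1, h1, hk⟩ := hk
        obtain ⟨g, hg, e1, e2⟩ := trans_TS hG hd h.ts h1
        refine ⟨φ ⟨g, hg⟩, ?_⟩
        rw [← cj_map]
        refine ⟨k, (mem_cj_XG h.ts).2 ⟨1, fun v => ?_⟩, rfl⟩
        rw [hk v]
        show Rf Q x1 y1 v = v + (1 * polar Q (g x) v) • g y - (1 * polar Q (g y) v) • g x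
        rw [e1, e2, one_mul, one_mul, Rf]
    rw [hset]
    apply Set.InjOn.ncard_image
    intro a ha b hb hab
    have h1 : φ (a * b⁻¹) = 1 := by rw [map_mul, map_inv, hab, mul_inv_cancel]
    have h2 := Subgroup.mem_center_iff.1 (hker h1)
    have h3 : (a * b⁻¹) ^ p = 1 := by
      have h4 : Commute (a * b⁻¹) b := (h2 b).symm
      have h5 : a = (a * b⁻¹) * b := by group
      have h6 := h4.mul_pow p
      rw [← h5, RE_mem ha, RE_mem hb, mul_one] at h6
      exact h6.symm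
    exact mul_inv_eq_one.1 (hkp1 _ h1 h3)

end

end Cfsg.Agent.H353.TwoOrth
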