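import Cfsg.Agent.H353.TwoOrthLR
import Cfsg.Agent.H353.TwoOrthArith
import Cfsg.Agent.H353.TwoBorel
import Cfsg.Agent.TitsThree.KSideO
import Cfsg.Agent.H396.CommTab1
import Cfsg.Agent.H396.CommTab2
import Cfsg.Agent.S0289
import Cfsg.Agent.S0290
import Cfsg.Agent.S0291

/-!
# HUB H1, orthogonal groups, `p ∣ n`: the degree is a power of `p` (helper353)

* `odd_deg` : `T = PΩ_{2 m + 1}(q)`, `m ≥ 3`, `q` odd: `n = q ^ (2 m)` or `n = q ^ (2 m - 2)`;
* `plus_deg`, `minus_deg` : `T = PΩ^±_{2 m}(q)`, `m ≥ 4`: `n = q ^ (2 m - 2)`;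
* `odd_pow`, `plus_pow`, `minus_pow` : `n = p ^ k`.
-/

set_option autoImplicit false

namespace Cfsg.Agent.H353.TwoOrthMain

open QuadraticMap Cfsg.Agent.LieClassical.OrthCore Cfsg.Agent.LieClassical.OrthTrans
open Cfsg.Agent.LieClassical.OrthSimple Cfsg.Agent.LieClassical.OrthForms
open Cfsg.Agent.LieClassical.OrthFinite Cfsg.Agent.H353.TwoOrth Cfsg.Agent.H353.TwoLong
open Cfsg.Agent.H384.TwoTrans Cfsg.Agent.H396 Cfsg.Agent.H396.CommTab

universe u v

variable {G : Type u} {Ω : Type v} [Group G] [MulAction G Ω] {T : Subgroup G}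

theorem gen (A : AS G Ω T) {ι : Type} [Fintype ι] [DecidableEq ι] {F : Type} [Field F] [Fintype F] {p : ℕ}
    [Fact p.Prime] [CharP F p] {Q : QuadraticForm F (ι → F)} (hQ : Nondeg Q) (hd : 7 ≤ Fintype.card ι)
    (e : ↥T ≃* Cfsg.POmega F ⇑Q) (hCG : HasCG p (Cfsg.POmega F ⇑Q)) (hdvd : p ∣ Nat.card Ω) :
    ∃ z' N : ℕ, nz Q = Fintype.card F ^ (Fintype.card ι - 2) * (Fintype.card F - 1) + z' * Fintype.card F ∧
      N * (Fintype.card F ^ 2 - 1) = (nz Q - 1) * (z' - 1) ∧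
      Fintype.card F ^ (Fintype.card ι - 4 + 1) ∣ Nat.card Ω ∧ (Nat.card Ω - 1) ∣ N := by
  have hfr : Module.finrank F (ι → F) = Fintype.card ι := Module.finrank_fintype_fun_eq_card F
  have hG : Good Q := good_of_finite hQ (by omega)
  obtain ⟨X, hX⟩ := orth_LR (p := p) hG (by omega)
    (e.symm.toMonoidHom.comp (Cfsg.Agent.TitsThree.KSideO.toPOmega hG))
    (e.symm.surjective.comp (Cfsg.Agent.TitsThree.KSideO.toPOmega_surjective hG))
    (fun g hg => Cfsg.Agent.TitsThree.KSideO.center_of_toPOmega hG (by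
      have h1 : e.symm (Cfsg.Agent.TitsThree.KSideO.toPOmega hG g) = 1 := hg
      exact (map_eq_one_iff e.symm e.symm.injective).1 h1))
  have hB := TwoBorel.normalizer_transitive A (hCG.of_equiv e.symm) hdvd
  obtain ⟨h1, h2⟩ := TwoLong.main A hX hB
  obtain ⟨x, x', hx⟩ := hG.exists_hyp
  have hz := card_zeros hx
  have hr := card_root hQ hx
  rw [Nat.card_eq_fintype_card, hfr] at hz h1
  rw [Nat.card_eq_fintype_card] at hr
  exact ⟨_, _, hz, hr, h1, h2⟩

theorem card_ne_two {F : Type*} [Field F] (h2 : (2 : F) = 0) [Fintype F] (h : Odd (Fintype.card F)) : False := by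
  have h3 : CharP F 2 := CharTwo.of_one_ne_zero_of_two_eq_zero one_ne_zero h2
  have h4 : 2 ∣ Fintype.card F := by
    rw [← CharP.cast_eq_zero_iff F 2, Nat.cast_card_eq_zero]
  obtain ⟨k, hk⟩ := h
  omega

theorem odd_deg (A : AS G Ω T) {F : Type} [Field F] [Fintype F] {p m : ℕ} [Fact p.Prime] [CharP F p] (hm : 3 ≤ m)
    (hodd : Odd (Fintype.card F)) (e : ↥T ≃* Cfsg.POmega F (Cfsg.quadFormOdd m F)) (hdvd : p ∣ Nat.card Ω) :
    Nat.card Ω = Fintype.card F ^ (2 * m) ∨ Nat.card Ω = Fintype.card F ^ (2 * m - 2) := by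
  have h2 : (2 : F) ≠ 0 := fun h => card_ne_two h hodd
  have hCG : HasCG p (Cfsg.POmega F (Cfsg.quadFormOdd m F)) := hasCG_PO_odd h2 (by omega)
  rw [← coe_oddForm] at e hCG
  have hι : Fintype.card (Unit ⊕ (Fin m ⊕ Fin m)) = 2 * m + 1 := by
    rw [Fintype.card_sum, Fintype.card_sum, Fintype.card_fin, Fintype.card_unit]
    omega
  obtain ⟨z', N, h3, h4, h5, h6⟩ := gen A (nondeg_oddForm m F h2) (by omega) e hCG hdvd
  rw [hι] at h3 h5
  have hz : nz (oddForm m F) = Fintype.card F ^ (2 * m) := by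
    rw [← Cfsg.Agent.S0291.result (F := F) rfl hodd m, nz, coe_oddForm]
  exact Arith.deg_B Fintype.one_lt_card hm (by have := A.five_le; omega) hz h3 h4 h5 h6

theorem plus_deg (A : AS G Ω T) {F : Type} [Field F] [Fintype F] {p m : ℕ} [Fact p.Prime] [CharP F p] (hm : 4 ≤ m)
    (e : ↥T ≃* Cfsg.POmega F (Cfsg.quadFormPlus m F)) (hdvd : p ∣ Nat.card Ω) :
    Nat.card Ω = Fintype.card F ^ (2 * m - 2) := by
  have hCG : HasCG p (Cfsg.POmega F (Cfsg.quadFormPlus m F)) := by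
    obtain ⟨k, rfl⟩ : ∃ k, m = k + 3 := ⟨m - 3, by omega⟩
    exact hasCG_PO_plus k
  rw [← coe_plusForm] at e hCG
  have hι : Fintype.card (Fin m ⊕ Fin m) = 2 * m := by
    rw [Fintype.card_sum, Fintype.card_fin]
    omega
  obtain ⟨z', N, h3, h4, h5, h6⟩ := gen A (nondeg_plusForm m F) (by omega) e hCG hdvd
  rw [hι] at h3 h5
  have hz : (nz (plusForm m F) : ℤ) = (Fintype.card F : ℤ) ^ (2 * m - 1) + 1 * ((Fintype.card F : ℤ) ^ m -
      (Fintype.card F : ℤ) ^ (m - 1)) := by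
    have h7 : nz (plusForm m F) = Fintype.card F ^ (2 * m - 1) + Fintype.card F ^ m - Fintype.card F ^ (m - 1) := by
      rw [← Cfsg.Agent.S0289.result (F := F) rfl m (by omega), nz, coe_plusForm]
    have h8 : Fintype.card F ^ (m - 1) ≤ Fintype.card F ^ m := Nat.pow_le_pow_right Fintype.card_pos (by omega)
    rw [h7, Nat.cast_sub (by omega)]
    push_cast
    ring
  exact Arith.deg_D (Or.inl rfl) Fintype.one_lt_card hm (by have := A.five_le; omega) hz h3 h4 h5 h6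

theorem minus_deg (A : AS G Ω T) {F : Type} [Field F] [Fintype F] {p m : ℕ} [Fact p.Prime] [CharP F p] (hm : 4 ≤ m)
    (a b : F) (hab : ∀ z₁ z₂ : F, z₁ ^ 2 + a * z₁ * z₂ + b * z₂ ^ 2 = 0 → z₁ = 0 ∧ z₂ = 0)
    (e : ↥T ≃* Cfsg.POmega F (Cfsg.quadFormMinus (m - 1) F a b)) (hdvd : p ∣ Nat.card Ω) :
    Nat.card Ω = Fintype.card F ^ (2 * m - 2) := by
  have hCG : HasCG p (Cfsg.POmega F (Cfsg.quadFormMinus (m - 1) F a b)) := hasCG_PO_minus a b hab (by omega)
  rw [← coe_minusForm] at e hCG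
  have hι : Fintype.card ((Fin (m - 1) ⊕ Fin (m - 1)) ⊕ Fin 2) = 2 * m := by
    rw [Fintype.card_sum, Fintype.card_sum, Fintype.card_fin, Fintype.card_fin]
    omega
  obtain ⟨z', N, h3, h4, h5, h6⟩ := gen A (nondeg_minusForm (m - 1) F a b hab) (by omega) e hCG hdvd
  rw [hι] at h3 h5
  have hz : (nz (minusForm (m - 1) F a b) : ℤ) = (Fintype.card F : ℤ) ^ (2 * m - 1) +
      (-1) * ((Fintype.card F : ℤ) ^ m - (Fintype.card F : ℤ) ^ (m - 1)) := by
    have h7 : nz (minusForm (m - 1) F a b) =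
        Fintype.card F ^ (2 * m - 1) + Fintype.card F ^ (m - 1) - Fintype.card F ^ m := by
      rw [← Cfsg.Agent.S0290.result (F := F) rfl m (by omega) a b hab, nz, coe_minusForm]
    have h8 : Fintype.card F ^ m ≤ Fintype.card F ^ (2 * m - 1) := Nat.pow_le_pow_right Fintype.card_pos (by omega)
    rw [h7, Nat.cast_sub (by omega)]
    push_cast
    ring
  exact Arith.deg_D (Or.inr rfl) Fintype.one_lt_card hm (by have := A.five_le; omega) hz h3 h4 h5 h6

theorem card_field {F : Type} [Field F] [Fintype F] (p : ℕ) [hp : Fact p.Prime] [CharP F p] (k : ℕ) :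
    ∃ j, Fintype.card F ^ k = p ^ j := by
  obtain ⟨⟨n, hn⟩, -, h⟩ := FiniteField.card F p
  exact ⟨n * k, by rw [h, pow_mul]; rfl⟩

/-- the degree is a power of `p` : odd dimension -/
theorem odd_pow (A : AS G Ω T) {p : ℕ} (hp : p.Prime) (h : Cfsg.IsPOmegaOddChar p ↥T) (hdvd : p ∣ Nat.card Ω) :
    ∃ k, Nat.card Ω = p ^ k := by
  have : Fact p.Prime := ⟨hp⟩
  obtain ⟨F, i1, i2, i3, m, hm, hodd, ⟨e⟩⟩ := h
  rcases odd_deg A hm hodd e hdvd with h | h
  · rw [h]; exact card_field p _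
  · rw [h]; exact card_field p _

/-- the degree is a power of `p` : plus type -/
theorem plus_pow (A : AS G Ω T) {p : ℕ} (hp : p.Prime) (h : Cfsg.IsPOmegaPlusChar p ↥T) (hdvd : p ∣ Nat.card Ω) :
    ∃ k, Nat.card Ω = p ^ k := by
  have : Fact p.Prime := ⟨hp⟩
  obtain ⟨F, i1, i2, i3, m, hm, ⟨e⟩⟩ := h
  rw [plus_deg A hm e hdvd]
  exact card_field p _

/-- the degree is a power of `p` : minus type -/
theorem minus_pow (A : AS G Ω T) {p : ℕ} (hp : p.Prime) (h : Cfsg.IsPOmegaMinusChar p ↥T) (hdvd : p ∣ Nat.card Ω) :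
    ∃ k, Nat.card Ω = p ^ k := by
  have : Fact p.Prime := ⟨hp⟩
  obtain ⟨F, i1, i2, i3, m, a, b, hm, hab, ⟨e⟩⟩ := h
  rw [minus_deg A hm a b hab e hdvd]
  exact card_field p _

end Cfsg.Agent.H353.TwoOrthMain
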