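import Cfsg.Agent.H822.Cls.Props
import Cfsg.Agent.H576.Kazarin

/-!
# Class sizes in a nonabelian minimal normal subgroup have two prime divisors (task 1458, S4148)
-/

set_option autoImplicit false

namespace Cfsg.Agent.H353.TwoPrimes

open scoped Pointwise commutatorElement
open Cfsg.Agent.H822.Cls

universe u

/-- a solvable normal subgroup of a nonabelian minimal normal subgroup is trivial -/
theorem eq_one_of_mem_solvable {G : Type u} [Group G] [Finite G] (N : Subgroup G) (hN : N.Normal)
    (hmin : ∀ N' : Subgroup G, N'.Normal → N' ≤ N → N' = ⊥ ∨ N' = N) (hnc : ¬ IsMulCommutative N)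
    (M : Subgroup N) (hM : M.Normal) (hs : Group.IsSolvable M) : M = ⊥ := by
  obtain ⟨R, hRc, hRs, hRm⟩ := SignalizersComponents.ComponentExists.exists_solvableRadical N
  have hMR : M ≤ R := hRm M hM hs
  have hRn : (R.map N.subtype).Normal := inferInstance
  have hnot : ¬ Group.IsSolvable N := by
    intro hsN
    apply hnc
    have hc : ((commutator N).map N.subtype).Normal := inferInstance
    rcases hmin _ hc (Subgroup.map_subtype_le _) with h | h
    · rw [Subgroup.map_eq_bot_iff_of_injective _ N.subtype_injective] at h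
      rw [commutator_eq_bot_iff_center_eq_top] at h
      refine ⟨⟨fun a b => ?_⟩⟩
      have hb : b ∈ Subgroup.center N := by rw [h]; trivial
      exact (Subgroup.mem_center_iff.1 hb a)
    · have h1 : commutator N = ⊤ := by
        rw [eq_top_iff]
        intro x _
        have hx : (x : G) ∈ (commutator N).map N.subtype := by rw [h]; exact x.2
        obtain ⟨y, hy, hyx⟩ := hx
        have : y = x := Subtype.ext hyx
        exact this ▸ hy
      have hnt : Nontrivial N := by
        by_contra hcon
        rw [not_nontrivial_iff_subsingleton] at hcon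
        exact hnc ⟨⟨fun a b => Subsingleton.elim _ _⟩⟩
      exact absurd h1 (ne_of_lt (Group.IsSolvable.commutator_lt_top_of_nontrivial (G := N)))
  rcases hmin _ hRn (Subgroup.map_subtype_le _) with h | h
  · rw [Subgroup.map_eq_bot_iff_of_injective _ N.subtype_injective] at h
    exact le_bot_iff.1 (h ▸ hMR)
  · exfalso
    apply hnot
    have h1 : R = ⊤ := by
      rw [eq_top_iff]
      intro x _
      have hx : (x : G) ∈ R.map N.subtype := by rw [h]; exact x.2
      obtain ⟨y, hy, hyx⟩ := hx
      have : y = x := Subtype.ext hyx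
      exact this ▸ hy
    subst h1
    exact Group.isSolvable_of_surjective (f := (Subgroup.topEquiv : (⊤ : Subgroup N) ≃* N).toMonoidHom)
      (Subgroup.topEquiv : (⊤ : Subgroup N) ≃* N).surjective

theorem two_primes : TwoPrimes.{u} := by
  intro G _ _ N hN hmin hnc x hx hx1
  set y : N := ⟨x, hx⟩ with hy
  set C : Subgroup G := Subgroup.centralizer ({x} : Set G) with hC
  have hidx : (Subgroup.centralizer ({y} : Set N)).index = C.relIndex N := by
    rw [H576.Kazarin.centralizer_subgroupOf N y]
    rfl
  have hdvd : (Subgroup.centralizer ({y} : Set N)).index ∣ C.index := by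
    rw [hidx]
    exact Cfsg.Agent.Lib.GoldschmidtFusion.relIndex_dvd_index_of_normal_right C N
  have hcard : (Subgroup.centralizer ({y} : Set N)).index ∣ Nat.card N := Subgroup.index_dvd_card _
  set n := (Subgroup.centralizer ({y} : Set N)).index with hn
  have hn0 : n ≠ 0 := Subgroup.index_ne_zero_of_finite
  have key : ∀ (p : ℕ), p.Prime → ∀ k, n ≠ p ^ k := by
    intro p hp k hk
    obtain ⟨M, hMn, hMs, hyM⟩ := H576.Kazarin.exists_normal_solvable hp _ N le_rfl y k hk
    have := eq_one_of_mem_solvable N hN hmin hnc M hMn hMs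
    rw [this, Subgroup.mem_bot] at hyM
    exact hx1 (congrArg Subtype.val hyM)
  obtain ⟨q₁, h1, h1n⟩ := Nat.exists_prime_and_dvd (n := n) (fun h => key 2 Nat.prime_two 0 (by rw [h, pow_zero]))
  have : ∃ q₂, q₂.Prime ∧ q₂ ∣ n ∧ q₁ ≠ q₂ := by
    by_contra hcon
    push Not at hcon
    exact key q₁ h1 _ (Nat.eq_prime_pow_of_unique_prime_dvd hn0 fun {d} hd hdn => (hcon d hd hdn).symm)
  obtain ⟨q₂, h2, h2n, hne⟩ := this
  exact ⟨q₁, q₂, h1, h2, hne, h1n.trans hcard, h2n.trans hcard, h1n.trans hdvd, h2n.trans hdvd⟩

end Cfsg.Agent.H353.TwoPrimes
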